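import Cfsg.Agent.Lib.U3MinIndex.Line

/-!
# A tame group on a hyperbolic line
-/

set_option autoImplicit false
set_option linter.unusedSectionVars false

namespace CfsgLib.U3MinIndex

open Matrix CfsgLib.PSUAut CfsgLib.QdFreeU3 CfsgLib.Classical.Dickson
open scoped LinearAlgebra.Projectivization

variable {F : Type*} [Field F] {q : ℕ}

local notation "V3" => Fin 3 → F
local notation "h3" => Cfsg.hermForm 3 F q
local notation "SU3" => (Cfsg.SU 3 F q)

variable [Fintype F] (hF : Fintype.card F = q ^ 2) {σ : F ≃+* F} (hσ : ∀ a, σ a = a ^ q)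

include hF hσ

variable {p : ℕ} [hp : Fact p.Prime] [CharP F p]

/-- The group induced on the line by a transitive subgroup without `p`-elements. -/
theorem line_tame (f : Fr F q) (L : Subgroup SU3) (hL : L ≤ f.SE) (hq3 : 3 ≤ q)
    (htame : ∀ g ∈ L, ∀ k : ℕ, g ^ p ^ k = 1 → g = 1)
    (htr : ∀ R, f.OnLine R → ∃ g ∈ L, g • f.P = R) :
    ∃ s k : ℕ, Nat.card ↥(L ⊓ f.B) = s * k ∧
      k ≤ Nat.card {g : ↥(L ⊓ f.B) // f.lam g.1 * σ (f.lam g.1) = 1} ∧
      (s ≤ 2 ∨ (q + 1) * s = 12 ∨ (q + 1) * s = 24 ∨ (q + 1) * s = 60) := by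
  classical
  haveI := finite_pt hF hσ
  haveI : CharP (AlgebraicClosure F) p :=
    charP_of_injective_algebraMap (algebraMap F (AlgebraicClosure F)).injective p
  let ρ : L →* Matrix.ProjGenLinGroup (Fin 2) (AlgebraicClosure F) :=
    (f.rho hF hσ).comp (Subgroup.inclusion hL)
  let x₀ := f.phi hF hσ ⟨f.P, f.P_onLine hF hσ⟩
  let M := ρ.range
  have hρfix : ∀ g : L, ρ g • x₀ = x₀ ↔ g.1 • f.P = f.P := by
    intro g
    show f.rho hF hσ (Subgroup.inclusion hL g) • _ = _ ↔ _
    rw [f.phi_smul hF hσ, (f.phi_injective hF hσ).eq_iff, Subtype.ext_iff]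
    rfl
  have horbit : MulAction.orbit M x₀ = Set.range (f.phi hF hσ) := by
    ext z
    constructor
    · rintro ⟨⟨_, g, rfl⟩, rfl⟩
      exact ⟨_, (f.phi_smul hF hσ (Subgroup.inclusion hL g) _).symm⟩
    · rintro ⟨R, rfl⟩
      obtain ⟨g, hg, hgR⟩ := htr R.1 R.2
      refine ⟨⟨ρ ⟨g, hg⟩, ⟨g, hg⟩, rfl⟩, ?_⟩
      show f.rho hF hσ (Subgroup.inclusion hL ⟨g, hg⟩) • x₀ = _
      rw [f.phi_smul hF hσ]
      exact congrArg _ (Subtype.ext hgR)
  have horb : Nat.card (MulAction.orbit M x₀) = q + 1 := by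
    rw [horbit, ← f.card_line hF hσ, Nat.card_range_of_injective (f.phi_injective hF hσ)]
  let C := L ⊓ f.B
  let ψ : C →* Matrix.ProjGenLinGroup (Fin 2) (AlgebraicClosure F) :=
    ρ.comp (Subgroup.inclusion inf_le_left)
  set s := Nat.card (MulAction.stabilizer M x₀) with hs
  have hψs : Nat.card ψ.range = s := by
    refine Nat.card_congr
      { toFun := fun z => ⟨⟨z.1, ?_⟩, ?_⟩, invFun := fun z => ⟨z.1.1, ?_⟩,
        left_inv := fun z => rfl, right_inv := fun z => rfl }
    · obtain ⟨g, hg⟩ := z.2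
      exact ⟨_, hg⟩
    · obtain ⟨g, hg⟩ := z.2
      rw [MulAction.mem_stabilizer_iff]
      show z.1 • x₀ = x₀
      rw [← hg]
      exact (hρfix _).2 g.2.2
    · obtain ⟨g, hg⟩ := z.1.2
      have h := MulAction.mem_stabilizer_iff.1 z.2
      refine ⟨⟨g.1, g.2, (hρfix g).1 ?_⟩, hg⟩
      rw [hg]
      exact h
  refine ⟨s, Nat.card ψ.ker, ?_, ?_, ?_⟩
  · rw [← hψs, ← Subgroup.index_ker, mul_comm, Subgroup.card_mul_index]
  · refine Nat.card_le_card_of_injective
      (fun g : ψ.ker => (⟨g.1, ?_⟩ : {g : ↥(L ⊓ f.B) // f.lam g.1 * σ (f.lam g.1) = 1}))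
      fun a b e => Subtype.ext (congrArg (fun z : {g : ↥(L ⊓ f.B) // f.lam g.1 * σ (f.lam g.1) = 1} => z.1) e)
    have hg : f.rho hF hσ ⟨g.1.1, hL g.1.2.1⟩ = 1 := MonoidHom.mem_ker.1 g.2
    rw [Fr.rho, MonoidHom.comp_apply] at hg
    rw [← map_one Matrix.ProjGenLinGroup.mk] at hg
    obtain ⟨u, hu⟩ := Matrix.ProjGenLinGroup.mk_eq_mk_iff.1 hg
    have hu' := congrArg (fun A : GL (Fin 2) (AlgebraicClosure F) => (A : Matrix (Fin 2) (Fin 2) (AlgebraicClosure F))) hu
    have e0 := congrFun (congrFun hu' 0) 0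
    have e1 := congrFun (congrFun hu' 1) 1
    simp [Fr.mat, Matrix.scalar_apply] at e0 e1
    have heq : h3 (act g.1.1 f.x) f.y = h3 (act g.1.1 f.y) f.x :=
      (algebraMap F (AlgebraicClosure F)).injective (mul_right_cancel₀ u.ne_zero (e0.trans e1.symm))
    have hn : σ (f.lam g.1.1) * h3 (act g.1.1 f.y) f.x = 1 := by
      have h0 := act_form g.1.1 f.y f.x
      rw [f.lam_spec hF hσ g.1.2.2, hsmul_right hF hσ, f.hyx] at h0
      exact h0
    rw [← heq, mul_comm] at hn
    exact hn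
  -- the classification
  by_cases hs2 : s ≤ 2
  · exact Or.inl hs2
  right
  have hM : Nat.card M = (q + 1) * s := by
    rw [hs, ← horb, CfsgLib.Classical.Dickson.card_orbit_mul M x₀]
  have hnp : ¬ p ∣ Nat.card M := by
    intro h
    obtain ⟨g, hg⟩ := exists_prime_orderOf_dvd_card' p (h.trans (Subgroup.card_range_dvd ρ))
    have := htame g.1 g.2 1 (by rw [pow_one, ← hg, ← Subgroup.coe_pow, pow_orderOf_eq_one, Subgroup.coe_one])
    rw [show g = 1 from Subtype.ext this, orderOf_one] at hg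
    exact hp.out.ne_one hg.symm
  have hfix3 : ∀ g : M, g ≠ 1 → ¬ ∀ m : M, g • (m • x₀) = m • x₀ := by
    intro g hg hall
    have hg1 : (g : Matrix.ProjGenLinGroup (Fin 2) (AlgebraicClosure F)) ≠ 1 := fun h => hg (Subtype.ext h)
    have hsub : MulAction.orbit M x₀ ⊆ fixSet (g : Matrix.ProjGenLinGroup (Fin 2) (AlgebraicClosure F)) := by
      rintro _ ⟨m, rfl⟩
      exact hall m
    have h2 : (fixSet (g : Matrix.ProjGenLinGroup (Fin 2) (AlgebraicClosure F))).ncard ≤ 2 := by
      rcases fix_cases hg1 with ⟨a, ha⟩ | ⟨a, b, hab, ha⟩ <;> rw [ha]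
      · simp
      · rw [Set.ncard_pair hab]
    have := Set.ncard_le_ncard hsub (finite_fixSet hg1)
    rw [← Nat.card_coe_set_eq, horb] at this
    omega
  rcases classify p M with ⟨hc, -⟩ | ⟨n, -, -, ⟨eD⟩⟩ | ⟨x, hx, u, hu, hux⟩ | hA | hA | hA |
    ⟨Q, k, hQ3, hQ, -, hcard, -⟩
  · exfalso
    haveI := hc
    obtain ⟨g, hg⟩ : ∃ g : MulAction.stabilizer M x₀, g ≠ 1 :=
      haveI : Nontrivial (MulAction.stabilizer M x₀) := Finite.one_lt_card_iff_nontrivial.1 (by omega)
      exists_ne 1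
    obtain ⟨t, ht⟩ := IsCyclic.exists_generator (α := M)
    refine hfix3 g.1 (fun h => hg (Subtype.ext h)) fun m => ?_
    obtain ⟨i, hi⟩ := ht g.1
    obtain ⟨j, hj⟩ := ht m
    simp only at hi hj
    rw [← mul_smul, ← hi, ← hj, ← _root_.zpow_add, add_comm, _root_.zpow_add, mul_smul, hj, hi, MulAction.mem_stabilizer_iff.1 g.2]
  · exfalso
    obtain ⟨U, k, -, hU, hUp, -, -, -, -, hcyc, -⟩ := exists_stab_data p M x₀
    have hbot : U = ⊥ := by
      obtain ⟨i, hi⟩ := hUp.exists_card_eq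
      refine Subgroup.card_eq_one.1 ?_
      rw [hi]
      rcases Nat.eq_zero_or_pos i with h0 | h0
      · rw [h0, pow_zero]
      · exact absurd ((hi ▸ dvd_pow_self p h0.ne').trans (Subgroup.card_subgroup_dvd_card U)) hnp
    haveI := hcyc hbot
    obtain ⟨g, hg⟩ := IsCyclic.exists_ofOrder_eq_natCard (α := MulAction.stabilizer M x₀)
    rw [← Subgroup.orderOf_coe, ← hs] at hg
    refine hfix3 g.1 (fun h => by rw [h, orderOf_one] at hg; omega) fun m => ?_
    have horder : orderOf (eD g.1) = s := by rw [MulEquiv.orderOf_eq, hg]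
    have key : m⁻¹ * g.1 * m = g.1 ∨ m⁻¹ * g.1 * m = g.1⁻¹ := by
      rcases hge : eD g.1 with i | i
      · rcases hme : eD m with j | j
        · left
          refine eD.injective ?_
          rw [map_mul, map_mul, map_inv, hge, hme]
          simp [DihedralGroup.inv_r, DihedralGroup.r_mul_r]
        · right
          refine eD.injective ?_
          rw [map_mul, map_mul, map_inv, map_inv, hge, hme]
          simp [DihedralGroup.inv_r, DihedralGroup.inv_sr, DihedralGroup.sr_mul_r, DihedralGroup.sr_mul_sr]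
      · rw [hge, DihedralGroup.orderOf_sr] at horder
        omega
    have hx' : (m⁻¹ * g.1 * m) • x₀ = x₀ := by
      rcases key with h | h <;> rw [h]
      · exact g.2
      · exact inv_smul_eq_iff.2 (MulAction.mem_stabilizer_iff.1 g.2).symm
    rwa [mul_smul, mul_smul, inv_smul_eq_iff] at hx'
  · exfalso
    have h1 : (u : Matrix.ProjGenLinGroup (Fin 2) (AlgebraicClosure F)) ≠ 1 := fun h => hu (Subtype.ext h)
    have hux' : (u : Matrix.ProjGenLinGroup (Fin 2) (AlgebraicClosure F)) • x = x := hx u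
    have hpow := (order_of_fix p h1 hux').1 hux
    refine hnp ?_
    have ho : orderOf (u : Matrix.ProjGenLinGroup (Fin 2) (AlgebraicClosure F)) = p :=
      orderOf_eq_prime hpow h1
    rw [← ho, Subgroup.orderOf_coe]
    exact orderOf_dvd_natCard u
  rotate_left 3
  · exfalso
    obtain ⟨S⟩ : Nonempty (Sylow p M) := inferInstance
    obtain ⟨i, hi⟩ := S.2.exists_card_eq
    have hSQ := hQ S
    rw [hi] at hSQ
    rcases Nat.eq_zero_or_pos i with h0 | h0
    · rw [h0, pow_zero] at hSQ; omega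
    · exact hnp ((hi ▸ dvd_pow_self p h0.ne').trans (Subgroup.card_subgroup_dvd_card _))
  all_goals
    obtain ⟨e⟩ := hA
    have hcard := Nat.card_congr e.toEquiv
    rw [hM] at hcard
    first
      | rw [nat_card_alternatingGroup, Nat.card_fin] at hcard
      | rw [Nat.card_perm, Nat.card_fin] at hcard
    generalize (q + 1) * s = N at hcard ⊢
    norm_num [Nat.factorial] at hcard
    omega

end CfsgLib.U3MinIndex
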