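import Cfsg.Agent.Lib.U3MinIndex.Small
import Cfsg.Agent.Lib.U3MinIndex.Tame

/-!
# Subgroups of index at most `q ^ 3` of `SU(3, q)`
-/

set_option autoImplicit false
set_option linter.unusedSectionVars false

namespace CfsgLib.U3MinIndex

open Matrix CfsgLib.PSUAut CfsgLib.QdFreeU3

variable {F : Type*} [Field F] {q : ℕ}

local notation "V3" => Fin 3 → F
local notation "h3" => Cfsg.hermForm 3 F q
local notation "SU3" => (Cfsg.SU 3 F q)

variable [Fintype F] (hF : Fintype.card F = q ^ 2) {σ : F ≃+* F} (hσ : ∀ a, σ a = a ^ q)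

/-- The skew product of two coordinates. -/
def omega (σ : F ≃+* F) (a b : F) : F := b * σ a - a * σ b

include hF hσ

variable {p : ℕ} [hp : Fact p.Prime] [CharP F p]

include hp

theorem transitive_of_large (H : Subgroup SU3) (hcard : (q ^ 2 - 1) * (q ^ 3 + 1) ≤ Nat.card H)
    (P R : Pt F q) : ∃ g ∈ H, g • P = R := by
  classical
  haveI := finite_pt hF hσ
  have hq := CfsgLib.Classical.two_le_q hF
  have horb : ∀ f : Fr F q, H ⊓ qSU f.x = ⊥ → MulAction.orbit H f.P = Set.univ := by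
    intro f hf
    apply Set.eq_of_subset_of_ncard_le (Set.subset_univ _) _ (Set.toFinite _)
    rw [Set.ncard_univ, card_pt hF hσ, ← Nat.card_coe_set_eq]
    have h1 := Nat.card_congr (MulAction.orbitProdStabilizerEquivGroup H f.P)
    rw [Nat.card_prod] at h1
    have h2 : Nat.card (MulAction.stabilizer H f.P) ≤ q ^ 2 - 1 := by
      rw [← card_units_sub hF hσ]
      refine Nat.card_le_card_of_injective (fun g => f.lamHom hF hσ ⟨g.1.1, g.2⟩) fun a b e => ?_
      have hmem : (⟨a.1.1, a.2⟩⁻¹ * ⟨b.1.1, b.2⟩ : f.B).1 ∈ H ⊓ qSU f.x :=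
        ⟨mul_mem (Subgroup.inv_mem _ a.1.2) b.1.2, (f.ker_lamHom hF hσ).1 (by
          rw [map_mul, map_inv]; exact inv_mul_eq_one.2 e)⟩
      rw [hf, Subgroup.mem_bot] at hmem
      exact Subtype.ext (Subtype.ext (inv_mul_eq_one.1 hmem))
    by_contra hlt
    push Not at hlt
    have := Nat.mul_le_mul (Nat.le_of_lt_succ hlt) h2
    rw [h1] at this
    have hq2 : 0 < q ^ 2 - 1 := by
      have := Nat.pow_le_pow_left hq 2
      omega
    rw [Nat.mul_comm (q ^ 2 - 1)] at hcard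
    rw [add_mul] at hcard
    omega
  by_cases hbot : ∃ f : Fr F q, H ⊓ qSU f.x = ⊥
  · obtain ⟨f, hf⟩ := hbot
    obtain ⟨g, hg⟩ := (horb f hf).symm ▸ Set.mem_univ P
    obtain ⟨g', hg'⟩ := (horb f hf).symm ▸ Set.mem_univ R
    refine ⟨g'.1 * g.1⁻¹, mul_mem g'.2 (Subgroup.inv_mem _ g.2), ?_⟩
    rw [← hg, ← hg', mul_smul]
    show g'.1 • g.1⁻¹ • g.1 • f.P = g'.1 • f.P
    rw [inv_smul_smul]
  · push Not at hbot
    have key : ∀ S : Pt F q, ∃ Q : Sylow p H, ∀ T : Pt F q, (∀ g ∈ (Q : Subgroup H), g.1 • T = T) ↔ T = S := by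
      intro S
      obtain ⟨f, rfl⟩ := exists_fr_pt hF hσ S
      obtain ⟨u, hu, hu1⟩ := ((H ⊓ qSU f.x).bot_or_exists_ne_one).resolve_left (hbot f)
      have hP : IsPGroup p ((qSU f.x : Subgroup SU3).subgroupOf H) := by
        intro s
        obtain ⟨i, hi⟩ := f.isPGroup_qSU' hF hσ (p := p) ⟨s.1.1, s.2⟩
        exact ⟨i, Subtype.ext (Subtype.ext (by simpa using congrArg Subtype.val hi))⟩
      obtain ⟨Q, hQ⟩ := hP.exists_le_sylow
      obtain ⟨k, hk⟩ := f.isPGroup_qSU' hF hσ (p := p) ⟨u, hu.2⟩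
      obtain ⟨T₀, hT₀⟩ := exists_fixed_pt hF hσ (p := p) (Q.2.map H.subtype)
      have huQ : (⟨u, hu.1⟩ : H) ∈ (Q : Subgroup H) := hQ hu.2
      have huniq : ∀ T : Pt F q, u • T = T → T = f.P := fun T hT =>
        fixed_unique hF hσ (by simpa using congrArg Subtype.val hk) hu1 (f.qSU_le_B hF hσ hu.2) hT
      refine ⟨Q, fun T => ⟨fun h => huniq T (h _ huQ), fun h g hg => ?_⟩⟩
      rw [h, ← huniq T₀ (hT₀ _ ⟨_, huQ, rfl⟩)]
      exact hT₀ _ ⟨g, hg, rfl⟩
    obtain ⟨Q, hQ⟩ := key P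
    obtain ⟨Q', hQ'⟩ := key R
    obtain ⟨l, rfl⟩ := MulAction.exists_smul_eq H Q Q'
    refine ⟨l.1, l.2, (hQ' _).1 fun g hg => ?_⟩
    rw [Sylow.coe_subgroup_smul, Subgroup.mem_pointwise_smul_iff_inv_smul_mem] at hg
    have h1 := (hQ P).2 rfl _ hg
    simp only [MulAut.smul_def, map_inv, MulAut.conj_inv_apply, Subgroup.coe_mul, Subgroup.coe_inv,
      mul_smul, inv_smul_eq_iff] at h1
    exact h1

theorem contains_transvections (H : Subgroup SU3) (f : Fr F q) (hU : tSU f.x ≤ H)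
    (htr : ∀ R : Pt F q, ∃ g ∈ H, g • f.P = R) (hq3 : 3 ≤ q) : H = ⊤ := by
  rw [eq_top_iff, ← CfsgLib.Classical.Unitary.su_closure_transvections hF (n := 3) le_rfl (by omega),
    Subgroup.closure_le]
  rintro A ⟨v, c, hv, hA⟩
  have hact : ∀ w, act A w = w + (c * h3 w v) • v := by
    intro w
    show ((A.1 : Matrix.SpecialLinearGroup (Fin 3) F) : Matrix (Fin 3) (Fin 3) F) *ᵥ w = _
    rw [hA, Cfsg.unitaryTransvection, Matrix.add_mulVec, Matrix.one_mulVec, Matrix.smul_mulVec,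
      Matrix.vecMulVec_mulVec]
    ext i
    simp [Cfsg.hermForm, dotProduct, Fin.sum_univ_three]
    ring
  by_cases hv0 : v = 0
  · have : A = 1 := act_ext fun w => by rw [hact, act_one, hv0, smul_zero, add_zero]
    rw [this]
    exact one_mem H
  obtain ⟨g, hg, hgv⟩ := htr (pt v (⟨hv0, hv⟩ : Isot q v))
  obtain ⟨a, ha⟩ := (pt_eq_iff _ _).1 ((pt_smul g f.x f.isotX).symm.trans hgv)
  have ha0 : a ≠ 0 := fun h => hv0 (by rw [ha, h, zero_smul])
  have hAt : A ∈ tSU (act g f.x) := by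
    intro w
    rw [hact, add_sub_cancel_left, ha, smul_smul]
    refine ⟨Submodule.smul_mem _ _ (Submodule.mem_span_singleton_self _), fun hw => ?_⟩
    rw [hsmul_right hF hσ, hw, mul_zero, mul_zero, zero_mul, zero_smul, add_zero]
  have hconj := tSU_conj g⁻¹ hAt
  rw [act_inv_apply, inv_inv] at hconj
  have : A = g * (g⁻¹ * A * g) * g⁻¹ := by group
  rw [this]
  exact mul_mem (mul_mem hg (hU hconj)) (Subgroup.inv_mem _ hg)

/-- The part of `H` fixing the first point of a frame. -/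
theorem card_point_stab (H : Subgroup SU3) (f : Fr F q) (htr : ∀ R : Pt F q, ∃ g ∈ H, g • f.P = R) :
    (q ^ 3 + 1) * Nat.card ↥(H ⊓ f.B) = Nat.card H := by
  haveI := finite_pt hF hσ
  have horb : MulAction.orbit H f.P = Set.univ := Set.eq_univ_of_forall fun R => by
    obtain ⟨g, hg, hgR⟩ := htr R
    exact ⟨⟨g, hg⟩, hgR⟩
  have h1 := Nat.card_congr (MulAction.orbitProdStabilizerEquivGroup H f.P)
  rw [Nat.card_prod, horb, Nat.card_congr (Equiv.Set.univ _), card_pt hF hσ] at h1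
  rw [← h1]
  congr 1
  exact Nat.card_congr
    { toFun := fun g => ⟨⟨g.1, g.2.1⟩, g.2.2⟩
      invFun := fun g => ⟨g.1.1, g.1.2, g.2⟩
      left_inv := fun g => rfl
      right_inv := fun g => rfl }

/-- The multipliers of a subgroup at a point. -/
noncomputable def lamRange (H : Subgroup SU3) (f : Fr F q) : Subgroup Fˣ :=
  ((H ⊓ f.B).subgroupOf f.B).map (f.lamHom hF hσ)

theorem mem_lamRange {H : Subgroup SU3} {f : Fr F q} {u : Fˣ} :
    u ∈ lamRange hF hσ H f ↔ ∃ g ∈ H ⊓ f.B, f.lam g = u := by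
  constructor
  · rintro ⟨g, hg, rfl⟩
    exact ⟨g.1, hg, rfl⟩
  · rintro ⟨g, hg, he⟩
    exact ⟨⟨g, hg.2⟩, hg, Units.ext he⟩

theorem card_stab_eq (H : Subgroup SU3) (f : Fr F q) :
    Nat.card ↥(H ⊓ f.B) = Nat.card ↥(H ⊓ qSU f.x) * Nat.card (lamRange hF hσ H f) := by
  let φ : ↥(H ⊓ f.B) →* Fˣ := (f.lamHom hF hσ).comp (Subgroup.inclusion inf_le_right)
  have hr : φ.range = lamRange hF hσ H f := by
    ext u
    rw [mem_lamRange hF hσ]
    constructor
    · rintro ⟨g, rfl⟩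
      exact ⟨g.1, g.2, rfl⟩
    · rintro ⟨g, hg, he⟩
      exact ⟨⟨g, hg⟩, Units.ext he⟩
  have hk : Nat.card φ.ker = Nat.card ↥(H ⊓ qSU f.x) := Nat.card_congr
    { toFun := fun g => ⟨g.1.1, g.1.2.1, (f.ker_lamHom hF hσ).1 (MonoidHom.mem_ker.1 g.2)⟩
      invFun := fun g => ⟨⟨g.1, g.2.1, f.qSU_le_B hF hσ g.2.2⟩,
        MonoidHom.mem_ker.2 ((f.ker_lamHom hF hσ).2 g.2.2)⟩
      left_inv := fun g => rfl
      right_inv := fun g => rfl }
  rw [← hr, ← hk, ← Subgroup.index_ker, Subgroup.card_mul_index]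

theorem card_lamRange_dvd (H : Subgroup SU3) (f : Fr F q) : Nat.card (lamRange hF hσ H f) ∣ q ^ 2 - 1 :=
  card_units_sub hF hσ ▸ Subgroup.card_subgroup_dvd_card _

theorem card_lamRange_dvd_of_pow (H : Subgroup SU3) (f : Fr F q) {n : ℕ}
    (h : ∀ u ∈ lamRange hF hσ H f, u ^ n = 1) : Nat.card (lamRange hF hσ H f) ∣ n := by
  obtain ⟨g, hg⟩ := IsCyclic.exists_ofOrder_eq_natCard (α := lamRange hF hσ H f)
  rw [← hg, ← Subgroup.orderOf_coe]
  exact orderOf_dvd_of_pow_eq_one (h _ g.2)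

/-- The coordinates of the `p`-part at a point. -/
noncomputable def abar (H : Subgroup SU3) (f : Fr F q) : AddSubgroup F where
  carrier := {a | ∃ g ∈ H ⊓ qSU f.x, f.alpha g = a}
  zero_mem' := ⟨1, one_mem _, f.alpha_one hF hσ⟩
  add_mem' := by
    rintro _ _ ⟨g, hg, rfl⟩ ⟨g', hg', rfl⟩
    exact ⟨g * g', mul_mem hg hg', f.alpha_mul hF hσ hg.2 hg'.2⟩
  neg_mem' := by
    rintro _ ⟨g, hg, rfl⟩
    exact ⟨g⁻¹, Subgroup.inv_mem _ hg, f.alpha_inv hF hσ hg.2⟩

theorem card_qSU_inter (H : Subgroup SU3) (f : Fr F q) :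
    Nat.card ↥(H ⊓ qSU f.x) = Nat.card ↥(H ⊓ tSU f.x) * Nat.card (abar hF hσ H f) := by
  let φ : ↥(H ⊓ qSU f.x) →* Multiplicative F :=
    { toFun := fun g => Multiplicative.ofAdd (f.alpha g.1)
      map_one' := congrArg Multiplicative.ofAdd (f.alpha_one hF hσ)
      map_mul' := fun g g' => congrArg Multiplicative.ofAdd (f.alpha_mul hF hσ g.2.2 g'.2.2) }
  have hr : Nat.card φ.range = Nat.card (abar hF hσ H f) := Nat.card_congr
    { toFun := fun u => ⟨u.1.toAdd, by
        obtain ⟨g, hg⟩ := u.2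
        exact ⟨g.1, g.2, congrArg Multiplicative.toAdd hg⟩⟩
      invFun := fun a => ⟨Multiplicative.ofAdd a.1, by
        obtain ⟨g, hg, ha⟩ := a.2
        exact ⟨⟨g, hg⟩, congrArg Multiplicative.ofAdd ha⟩⟩
      left_inv := fun u => rfl
      right_inv := fun a => rfl }
  have hk : Nat.card φ.ker = Nat.card ↥(H ⊓ tSU f.x) := Nat.card_congr
    { toFun := fun g => ⟨g.1.1, g.1.2.1, (f.mem_tSU_iff_alpha hF hσ).2
        ⟨g.1.2.2, congrArg Multiplicative.toAdd (MonoidHom.mem_ker.1 g.2)⟩⟩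
      invFun := fun g => ⟨⟨g.1, g.2.1, ((f.mem_tSU_iff_alpha hF hσ).1 g.2.2).1⟩,
        MonoidHom.mem_ker.2 (congrArg Multiplicative.ofAdd ((f.mem_tSU_iff_alpha hF hσ).1 g.2.2).2)⟩
      left_inv := fun g => rfl
      right_inv := fun g => rfl }
  rw [← hr, ← hk, ← Subgroup.index_ker, Subgroup.card_mul_index]

theorem abar_smul (H : Subgroup SU3) (f : Fr F q) {u : Fˣ} (hu : u ∈ lamRange hF hσ H f) {a : F}
    (ha : a ∈ abar hF hσ H f) : (u : F) * u / σ u * a ∈ abar hF hσ H f := by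
  obtain ⟨k, hk, hku⟩ := (mem_lamRange hF hσ).1 hu
  obtain ⟨g, hg, rfl⟩ := ha
  refine ⟨k * g * k⁻¹, ⟨mul_mem (mul_mem hk.1 hg.1) (Subgroup.inv_mem _ hk.1), f.conj_mem hF hσ hk.2 hg.2⟩, ?_⟩
  rw [f.alpha_conj hF hσ hk.2 hg.2, hku]

theorem beta_smul (H : Subgroup SU3) (f : Fr F q) {u : Fˣ} (hu : u ∈ lamRange hF hσ H f) {g : SU3}
    (hg : g ∈ H ⊓ tSU f.x) : ∃ g' ∈ H ⊓ tSU f.x, f.beta g' = u * σ u * f.beta g := by
  obtain ⟨k, hk, hku⟩ := (mem_lamRange hF hσ).1 hu
  exact ⟨k * g * k⁻¹, ⟨mul_mem (mul_mem hk.1 hg.1) (Subgroup.inv_mem _ hk.1), f.conj_tSU hF hσ hk.2 hg.2⟩, by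
    rw [f.beta_conj hF hσ hk.2 hg.2, hku]⟩

theorem abar_omega (H : Subgroup SU3) (f : Fr F q) {a b : F} (ha : a ∈ abar hF hσ H f)
    (hb : b ∈ abar hF hσ H f) : ∃ g ∈ H ⊓ tSU f.x, f.beta g * h3 f.e f.e = omega σ a b := by
  obtain ⟨g, hg, rfl⟩ := ha
  obtain ⟨g', hg', rfl⟩ := hb
  obtain ⟨h1, h2⟩ := f.comm_beta hF hσ hg.2 hg'.2
  refine ⟨_, ⟨mul_mem (mul_mem hg.1 hg'.1) (Subgroup.inv_mem _ (mul_mem hg'.1 hg.1)), h1⟩, ?_⟩
  rw [h2, div_mul_cancel₀ _ f.hee, omega]

theorem omega_zero {a b : F} (ha : a ≠ 0) (h : omega σ a b = 0) : σ (b / a) = b / a := by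
  have hσa : σ a ≠ 0 := (map_ne_zero_iff σ σ.injective).2 ha
  rw [map_div₀, div_eq_div_iff hσa ha]
  rw [omega] at h
  linear_combination -h

omit [Field F] [Fintype F] hF hσ hp [CharP F p] in
theorem case_key : ∀ Q S K : ℕ, Q ≤ 7 → S ≤ 20 → K ≤ 8 → 4 ≤ Q → Q ≠ 5 → Q ≠ 6 → (Q - 1) * (Q + 1) = S * K → K ≤ Q + 1 →
    ¬((Q + 1) * S = 12 ∨ (Q + 1) * S = 24 ∨ (Q + 1) * S = 60) := by
  intro Q S K hQ hS hK
  have key : ∀ Q : Fin 8, ∀ S : Fin 21, ∀ K : Fin 9, ¬ (4 ≤ Q.1 ∧ Q.1 ≠ 5 ∧ Q.1 ≠ 6 ∧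
    (Q.1 - 1) * (Q.1 + 1) = S.1 * K.1 ∧ K.1 ≤ Q.1 + 1 ∧
    ((Q.1 + 1) * S.1 = 12 ∨ (Q.1 + 1) * S.1 = 24 ∨ (Q.1 + 1) * S.1 = 60)) := by decide +kernel
  exact fun a b c d e f => key ⟨Q, by omega⟩ ⟨S, by omega⟩ ⟨K, by omega⟩ ⟨a, b, c, d, e, f⟩

theorem abar_le (H : Subgroup SU3) (f : Fr F q) :
    Nat.card (abar hF hσ H f) ≤ q ∨ Nat.card (abar hF hσ H f) ≤ Nat.card ↥(H ⊓ tSU f.x) ^ 2 := by
  classical
  by_cases hall : ∃ a ∈ abar hF hσ H f, ∃ b ∈ abar hF hσ H f, omega σ a b ≠ 0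
  · right
    obtain ⟨a, ha, b, hb, hab⟩ := hall
    have hab' : ∀ x : abar hF hσ H f, ∃ g g' : ↥(H ⊓ tSU f.x),
        f.beta g.1 * h3 f.e f.e = omega σ a x.1 ∧ f.beta g'.1 * h3 f.e f.e = omega σ b x.1 := fun x => by
      obtain ⟨g, hg, h⟩ := abar_omega hF hσ H f ha x.2
      obtain ⟨g', hg', h'⟩ := abar_omega hF hσ H f hb x.2
      exact ⟨⟨g, hg⟩, ⟨g', hg'⟩, h, h'⟩
    choose g g' hg hg' using hab'
    rw [pow_two, ← Nat.card_prod]
    refine Nat.card_le_card_of_injective (fun x => (g x, g' x)) fun x y e => Subtype.ext ?_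
    have hgxy : g x = g y := congrArg Prod.fst e
    have hgxy' : g' x = g' y := congrArg Prod.snd e
    have e1 : omega σ a x.1 = omega σ a y.1 := by
      rw [← hg, ← hg, hgxy]
    have e2 : omega σ b x.1 = omega σ b y.1 := by
      rw [← hg', ← hg', hgxy']
    set d := x.1 - y.1 with hd
    have d1 : omega σ a d = 0 := by
      simp only [omega] at e1 ⊢; rw [hd, map_sub]; linear_combination e1
    have d2 : omega σ b d = 0 := by
      simp only [omega] at e2 ⊢; rw [hd, map_sub]; linear_combination e2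
    by_contra hne
    have hd0 : d ≠ 0 := sub_ne_zero.2 hne
    apply hab
    simp only [omega] at d1 d2 ⊢
    have hσd : σ d ≠ 0 := (map_ne_zero_iff σ σ.injective).2 hd0
    refine mul_left_cancel₀ hσd ?_
    rw [mul_zero]
    linear_combination σ a * -d2 + σ b * d1
  · left
    push Not at hall
    by_cases h0 : ∀ a ∈ abar hF hσ H f, a = 0
    · have : Nat.card (abar hF hσ H f) = 1 :=
        Nat.card_eq_one_iff_unique.2 ⟨⟨fun a b => Subtype.ext ((h0 _ a.2).trans (h0 _ b.2).symm)⟩, ⟨0⟩⟩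
      rw [this]
      have := CfsgLib.Classical.two_le_q hF
      omega
    · push Not at h0
      obtain ⟨a, ha, ha0⟩ := h0
      refine le_trans (Nat.card_le_card_of_injective
        (fun x : abar hF hσ H f => (⟨x.1 / a, omega_zero hF hσ (p := p) ha0 (hall a ha x.1 x.2)⟩ :
          {c : F // σ c = c})) fun x y e => ?_) (card_skew_fixed hF hσ).2.le
      exact Subtype.ext ((div_left_inj' ha0).1 (congrArg Subtype.val e))

theorem abar_modEq (H : Subgroup SU3) (f : Fr F q) {u : Fˣ} (hu : u ∈ lamRange hF hσ H f) {e : ℕ}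
    (he : e.Prime) (hord : orderOf ((u : F) * u / σ u) = e) :
    Nat.card (abar hF hσ H f) ≡ 1 [MOD e] := by
  haveI : Fact e.Prime := ⟨he⟩
  set m : F := (u : F) * u / σ u with hm
  have hm0 : m ≠ 0 := fun h => by
    rw [h, orderOf_eq_zero_iff'.2 fun n hn h1 => by rw [zero_pow (by omega)] at h1; exact zero_ne_one h1] at hord
    exact he.ne_zero hord.symm
  let A := abar hF hσ H f
  let μ : Equiv.Perm A := Equiv.ofBijective (fun a => ⟨m * a.1, abar_smul hF hσ H f hu a.2⟩)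
    ((Finite.injective_iff_bijective).1 fun a b h =>
      Subtype.ext (mul_left_cancel₀ hm0 (congrArg (fun z : A => z.1) h)))
  have hμ : ∀ (i : ℕ) (a : A), ((μ ^ i) a).1 = m ^ i * a.1 := by
    intro i
    induction i with
    | zero => intro a; simp
    | succ i ih =>
      intro a
      rw [pow_succ', Equiv.Perm.mul_apply, pow_succ', mul_assoc, ← ih]
      rfl
  have hμe : μ ^ e = 1 := Equiv.ext fun a => Subtype.ext (by
    rw [hμ, ← hord, pow_orderOf_eq_one, one_mul, Equiv.Perm.one_apply])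
  have hμ1 : μ ≠ 1 ∨ Nat.card A = 1 := by
    by_cases h : ∃ a : A, a.1 ≠ 0
    · obtain ⟨a, ha⟩ := h
      refine Or.inl fun h1 => ?_
      have h0 := congrArg (fun π : Equiv.Perm A => (π a).1) h1
      have hm1 : m = 1 := (mul_eq_right₀ ha).1 h0
      rw [hm1, orderOf_one] at hord
      exact he.ne_one hord.symm
    · push Not at h
      exact Or.inr (Nat.card_eq_one_iff_unique.2
        ⟨⟨fun a b => Subtype.ext ((h a).trans (h b).symm)⟩, ⟨0⟩⟩)
  rcases hμ1 with hμ1 | h1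
  swap
  · exact (congrArg (fun n => n % e) h1 : _)
  have hP : IsPGroup e (Subgroup.zpowers μ) :=
    IsPGroup.of_card (n := 1) (by rw [Nat.card_zpowers, orderOf_eq_prime hμe hμ1, pow_one])
  refine (hP.card_modEq_card_fixedPoints A).trans ?_
  have h0 : Nat.card (MulAction.fixedPoints (Subgroup.zpowers μ) A) = 1 := by
    refine Nat.card_eq_one_iff_unique.2 ⟨⟨fun a b => ?_⟩, ⟨⟨0, fun g => ?_⟩⟩⟩
    · have hz : ∀ c : MulAction.fixedPoints (Subgroup.zpowers μ) A, c.1.1 = 0 := fun c => by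
        have hc : m * c.1.1 = c.1.1 := congrArg (fun z : A => z.1) (c.2 ⟨μ, Subgroup.mem_zpowers μ⟩)
        by_contra hne
        have hm1 : m = 1 := (mul_eq_right₀ hne).1 hc
        rw [hm1, orderOf_one] at hord
        exact he.ne_one hord.symm
      exact Subtype.ext (Subtype.ext ((hz a).trans (hz b).symm))
    · have hst : Subgroup.zpowers μ ≤ MulAction.stabilizer (Equiv.Perm A) (0 : A) :=
        Subgroup.zpowers_le.2 (Subtype.ext (mul_zero m))
      exact hst g.2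
  rw [h0]

/-- A subgroup of small index with elations. -/
theorem case_elations (H : Subgroup SU3) (f : Fr F q) (htr : ∀ R : Pt F q, ∃ g ∈ H, g • f.P = R)
    (hq3 : 3 ≤ q) (h5 : q ≠ 5) (hne : H ⊓ tSU f.x ≠ ⊥) (hlt : ¬ tSU f.x ≤ H)
    (hb : q ^ 2 - 1 ≤ Nat.card ↥(H ⊓ qSU f.x) * Nat.card (lamRange hF hσ H f)) : False := by
  classical
  obtain ⟨z, hz, hz1⟩ := ((H ⊓ tSU f.x).bot_or_exists_ne_one).resolve_left hne
  have hall : ∀ R, f.OnLine R → ∃ g ∈ H ⊓ f.SE, g ≠ 1 ∧ (∃ k, g ^ p ^ k = 1) ∧ g • R = R := by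
    intro R hR
    obtain ⟨g, hg, hgR⟩ := htr R
    subst hgR
    rw [Fr.P, pt_smul, f.onLine_pt hF hσ] at hR
    obtain ⟨k, hk⟩ := f.isPGroup_qSU' hF hσ (p := p) ⟨z, tSU_le_qSU hF hσ f.isotX hz.2⟩
    refine ⟨g * z * g⁻¹, ⟨mul_mem (mul_mem hg hz.1) (Subgroup.inv_mem _ hg), 1, ?_⟩, fun h => hz1 ?_, ⟨k, ?_⟩, ?_⟩
    · rw [one_smul]
      exact (tSU_conj g hz.2 f.e).2 ((hcomm hF hσ _ _).1 hR)
    · exact conj_eq_one_iff.1 h
    · rw [conj_pow, show z ^ p ^ k = 1 by simpa using congrArg Subtype.val hk, mul_one, mul_inv_cancel]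
    · rw [← mul_smul, inv_mul_cancel_right, mul_smul,
        show z • f.P = f.P from f.qSU_le_B hF hσ (tSU_le_qSU hF hσ f.isotX hz.2)]
  have hZ : Nat.card ↥((H ⊓ f.SE) ⊓ tSU f.x) = Nat.card ↥(H ⊓ tSU f.x) := by
    have : (tSU f.x : Subgroup SU3) ≤ f.SE := fun t ht =>
      (f.qSU_SE_iff hF hσ (tSU_le_qSU hF hσ f.isotX ht)).2 ht
    rw [inf_assoc, inf_eq_right.2 this]
  have hbar := card_qSU_inter hF hσ H f (p := p)
  set P' := Nat.card (abar hF hσ H f) with hP'
  set t := Nat.card (lamRange hF hσ H f) with ht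
  rcases line_elations hF hσ (p := p) f (H ⊓ f.SE) inf_le_right hq3 h5 hall with h | ⟨hp2, h⟩ | ⟨hq9, h⟩ <;>
    rw [hZ] at h
  · refine hlt ?_
    have h0 : H ⊓ tSU f.x = tSU f.x := Subgroup.eq_of_le_of_card_ge inf_le_right
      (by rw [h, f.card_tSU hF hσ])
    exact h0 ▸ inf_le_left
  · subst hp2
    have h2F : (2 : F) = 0 := by exact_mod_cast CharP.cast_eq_zero F 2
    have hbetaz : ∀ g ∈ H ⊓ tSU f.x, g ≠ 1 → g = z := by
      intro g hg hg1
      by_contra hgz
      have h2 : Nat.card ({1, z, g} : Set SU3) ≤ Nat.card ↥(H ⊓ tSU f.x) := by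
        refine Nat.card_mono (Set.toFinite _) ?_
        rintro x (rfl | rfl | rfl)
        · exact one_mem _
        · exact hz
        · exact hg
      rw [h, Nat.card_coe_set_eq, Set.ncard_eq_three.2 ⟨1, z, g, hz1.symm, hg1.symm, Ne.symm hgz, rfl⟩] at h2
      omega
    set C := f.beta z * h3 f.e f.e with hC
    have hC0 : C ≠ 0 := by
      refine mul_ne_zero (fun h0 => hz1 ?_) f.hee
      exact f.eq_of_coords hF hσ (tSU_le_qSU hF hσ f.isotX hz.2) (one_mem _)
        (((f.mem_tSU_iff_alpha hF hσ).1 hz.2).2.trans (f.alpha_one hF hσ).symm)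
        (h0.trans (f.beta_one hF hσ).symm)
    have hnorm : ∀ a ∈ abar hF hσ H f, a ≠ 0 → a * σ a = C := by
      rintro _ ⟨g, hg, rfl⟩ ha
      obtain ⟨h1, h2⟩ := f.sq_two hF hσ h2F hg.2
      have hg1 : g * g ≠ 1 := by
        intro h0
        rw [h0, f.beta_one hF hσ, eq_comm, div_eq_zero_iff] at h2
        rcases mul_eq_zero.1 (h2.resolve_right f.hee) with h' | h'
        · exact ha h'
        · exact ha ((map_eq_zero_iff σ σ.injective).1 h')
      rw [hbetaz _ ⟨mul_mem hg.1 hg.1, h1⟩ hg1] at h2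
      rw [hC, h2, div_mul_cancel₀ _ f.hee]
    have hP4 : P' ≤ 4 := by
      by_cases h0 : ∀ a ∈ abar hF hσ H f, a = 0
      · have : P' = 1 := Nat.card_eq_one_iff_unique.2
          ⟨⟨fun a b => Subtype.ext ((h0 _ a.2).trans (h0 _ b.2).symm)⟩, ⟨0⟩⟩
        omega
      push Not at h0
      obtain ⟨a, ha, ha0⟩ := h0
      let Q : Polynomial F := Polynomial.X ^ 4 + Polynomial.C 1 * Polynomial.X
      have hdeg : Q.natDegree = 4 := by
        rw [Polynomial.natDegree_add_eq_left_of_natDegree_lt] <;> rw [Polynomial.natDegree_X_pow]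
        exact lt_of_le_of_lt (Polynomial.natDegree_C_mul_le _ _) (by rw [Polynomial.natDegree_X]; omega)
      have hQ : Q ≠ 0 := fun h0 => by rw [h0, Polynomial.natDegree_zero] at hdeg; omega
      have hroot : ∀ b ∈ abar hF hσ H f, b / a ∈ Q.roots.toFinset := by
        intro b hb
        rw [Multiset.mem_toFinset, Polynomial.mem_roots hQ]
        set u := b / a with hu
        simp only [Polynomial.IsRoot.def, Q, Polynomial.eval_add, Polynomial.eval_pow, Polynomial.eval_X,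
          Polynomial.eval_mul, Polynomial.eval_C, one_mul]
        by_cases hb0 : b = 0
        · rw [hu, hb0, zero_div]; ring
        have hbu : b = u * a := (div_mul_cancel₀ b ha0).symm
        have hu1 : u * σ u = 1 := by
          have h1 := hnorm b hb hb0
          rw [hbu, map_mul, show u * a * (σ u * σ a) = u * σ u * (a * σ a) by ring, hnorm a ha ha0] at h1
          exact (mul_eq_right₀ hC0).1 h1
        by_cases hab : a + b = 0
        · have : u = 1 := by
            refine mul_right_cancel₀ ha0 ?_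
            rw [← hbu, one_mul]
            linear_combination hab - a * h2F
          rw [this]
          linear_combination h2F
        · have h1 := hnorm (a + b) (add_mem ha hb) hab
          rw [hbu, map_add, map_mul, show (a + u * a) * (σ a + σ u * σ a) =
            (1 + u + σ u + u * σ u) * (a * σ a) by ring, hnorm a ha ha0] at h1
          have h2' : 1 + u + σ u + u * σ u = 1 := (mul_eq_right₀ hC0).1 h1
          have hu2 : u * u + u + 1 = 0 := by linear_combination u * h2' - (u + 1) * hu1 - (u * u) * 0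
          linear_combination u * (u + 1) * hu2 - (u ^ 3 + u ^ 2) * h2F
      refine le_trans (Nat.card_le_card_of_injective
        (fun b : abar hF hσ H f => (⟨b.1 / a, hroot b.1 b.2⟩ : Q.roots.toFinset))
        fun x y e => Subtype.ext ((div_left_inj' ha0).1 (congrArg Subtype.val e))) ?_
      rw [Nat.card_eq_finsetCard]
      exact (Multiset.toFinset_card_le _).trans ((Polynomial.card_roots' Q).trans hdeg.le)
    have hlam : ∀ u ∈ lamRange hF hσ H f, (u : F) * σ u = 1 := by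
      intro u hu
      obtain ⟨g', hg', hb'⟩ := beta_smul hF hσ H f hu hz
      have hz0 : f.beta z ≠ 0 := left_ne_zero_of_mul hC0
      have hg'1 : g' ≠ 1 := by
        intro h0
        rw [h0, f.beta_one hF hσ, eq_comm, mul_eq_zero] at hb'
        exact (mul_ne_zero u.ne_zero ((map_ne_zero_iff σ σ.injective).2 u.ne_zero)) (hb'.resolve_right hz0)
      rw [hbetaz g' hg' hg'1] at hb'
      exact (mul_eq_right₀ hz0).1 hb'.symm
    have htq : t ∣ q + 1 := card_lamRange_dvd_of_pow hF hσ H f fun u hu => Units.ext (by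
      rw [Units.val_pow_eq_pow_val, pow_succ', ← hσ, hlam u hu, Units.val_one])
    rw [h] at hbar
    rw [hbar] at hb
    obtain ⟨a, -, hqa⟩ := exists_q_pow hF hσ (p := 2)
    have hq10 : q ≤ 9 := by
      by_contra hc
      push Not at hc
      have h1 := Nat.le_of_dvd (Nat.succ_pos q) htq
      have h2 : 2 * P' * t ≤ 8 * (q + 1) := Nat.mul_le_mul (by omega) h1
      have h3' : 10 * q ≤ q ^ 2 := by rw [pow_two]; exact Nat.mul_le_mul_right q hc
      omega
    have hq48 : q = 4 ∨ q = 8 := by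
      rcases a with _ | _ | _ | _ | a
      · rw [hqa] at hq3; norm_num at hq3
      · rw [hqa] at hq3; norm_num at hq3
      · left; rw [hqa]; norm_num
      · right; rw [hqa]; norm_num
      · have := Nat.pow_le_pow_right two_pos (show 4 ≤ a + 4 by omega)
        norm_num at this
        omega
    rcases hq48 with hq4 | hq8
    · obtain ⟨u, hu⟩ := IsCyclic.exists_ofOrder_eq_natCard (α := lamRange hF hσ H f)
      rw [← ht] at hu
      rw [hq4] at hb htq
      norm_num at hb htq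
      have ht5 : t = 5 := by
        rcases (Nat.dvd_prime (by norm_num : Nat.Prime 5)).1 htq with h1 | h1
        · rw [h1] at hb; omega
        · exact h1
      have hu5 : orderOf ((u.1 : F)) = 5 := by
        rw [orderOf_units, Subgroup.orderOf_coe, hu, ht5]
      have hσu : σ (u.1 : F) ≠ 0 := (map_ne_zero_iff σ σ.injective).2 u.1.ne_zero
      have hm : (u.1 : F) * u.1 / σ u.1 = (u.1 : F) ^ 3 := by
        rw [div_eq_iff hσu]
        linear_combination -((u.1 : F) ^ 2) * hlam u.1 u.2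
      have hord : orderOf ((u.1 : F) * u.1 / σ u.1) = 5 := by
        rw [hm, orderOf_pow' _ (by norm_num : 3 ≠ 0), hu5]
        norm_num
      have hmod := abar_modEq hF hσ H f u.2 (by norm_num : Nat.Prime 5) hord
      rw [ht5] at hb
      simp only [← hP'] at hmod
      interval_cases P' <;> first | omega | exact absurd hmod (by decide)
    · rw [hq8] at hb htq
      norm_num at hb htq
      have ht9 : t = 9 ∧ P' = 4 := by
        have key : ∀ s ∈ Nat.divisors 9, ∀ r ≤ 4, 63 ≤ 2 * r * s → s = 9 ∧ r = 4 := by decide +kernel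
        exact key t (Nat.mem_divisors.2 ⟨htq, by norm_num⟩) P' hP4 hb
      refine no_eight hF hσ (p := 2) hq8 H ?_
      have hq3v : q ^ 3 + 1 = 513 := by rw [hq8]; norm_num
      rw [← card_point_stab hF hσ (p := 2) H f htr, card_stab_eq hF hσ (p := 2) H f, hbar, ← ht, hq3v,
        ht9.1, ht9.2]
  · rw [h] at hbar
    have hp3 : p = 3 := by
      have h0 : p ∣ q := p_dvd_q hF hσ
      rw [hq9] at h0
      exact (Nat.prime_dvd_prime_iff_eq hp.out Nat.prime_three).1
        (hp.out.dvd_of_dvd_pow (show p ∣ 3 ^ 2 by norm_num; exact h0))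
    subst hp3
    have hbetas : ∀ g ∈ H ⊓ tSU f.x, g = 1 ∨ g = z ∨ g = z⁻¹ := by
      intro g hg
      let zz : ↥(H ⊓ tSU f.x) := ⟨z, hz⟩
      have ho : orderOf zz = 3 := by
        rcases (Nat.dvd_prime Nat.prime_three).1 (h ▸ orderOf_dvd_natCard zz) with h1 | h1
        · exact absurd (congrArg Subtype.val (orderOf_eq_one_iff.1 h1)) hz1
        · exact h1
      have hzp : Subgroup.zpowers zz = ⊤ := Subgroup.eq_top_of_card_eq _ (by rw [Nat.card_zpowers, ho, h])
      obtain ⟨i, hi⟩ := Subgroup.mem_zpowers_iff.1 (hzp ▸ Subgroup.mem_top (⟨g, hg⟩ : ↥(H ⊓ tSU f.x)))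
      have hi' : z ^ i = g := congrArg Subtype.val hi
      have hz3 : z ^ (3 : ℤ) = 1 := by
        have hh : zz ^ 3 = 1 := by
          have h' := pow_orderOf_eq_one zz
          rwa [ho] at h'
        rw [zpow_ofNat]
        exact congrArg Subtype.val hh
      rw [← hi', ← Int.emod_add_mul_ediv i 3, _root_.zpow_add, _root_.zpow_mul, hz3, _root_.one_zpow, mul_one]
      have h3pos := Int.emod_nonneg i (by norm_num : (3 : ℤ) ≠ 0)
      have h3lt := Int.emod_lt_of_pos i (by norm_num : (0 : ℤ) < 3)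
      interval_cases i % 3
      · exact Or.inl (zpow_zero z)
      · exact Or.inr (Or.inl (zpow_one z))
      · refine Or.inr (Or.inr (eq_inv_of_mul_eq_one_left ?_))
        rw [← _root_.zpow_add_one, show (2 : ℤ) + 1 = 3 from rfl, hz3]
    have hbinv : f.beta z⁻¹ = -f.beta z := by
      obtain ⟨h1, h2⟩ := (f.mem_tSU_iff_alpha hF hσ).1 hz.2
      have h0 := f.beta_mul hF hσ h1 (Subgroup.inv_mem _ h1)
      rw [mul_inv_cancel, f.beta_one hF hσ, h2, zero_mul, zero_div, sub_zero] at h0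
      linear_combination -h0
    have hz0 : f.beta z ≠ 0 := fun h0 => hz1 (f.eq_of_coords hF hσ (tSU_le_qSU hF hσ f.isotX hz.2) (one_mem _)
      (((f.mem_tSU_iff_alpha hF hσ).1 hz.2).2.trans (f.alpha_one hF hσ).symm)
      (h0.trans (f.beta_one hF hσ).symm))
    have hlam : ∀ u ∈ lamRange hF hσ H f, (u : F) ^ 20 = 1 := by
      intro u hu
      obtain ⟨g', hg', hb'⟩ := beta_smul hF hσ H f hu hz
      have hn : (u : F) * σ u = 1 ∨ (u : F) * σ u = -1 := by
        rcases hbetas g' hg' with h0 | h0 | h0 <;> rw [h0] at hb'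
        · rw [f.beta_one hF hσ, eq_comm, mul_eq_zero] at hb'
          exact absurd (hb'.resolve_right hz0)
            (mul_ne_zero u.ne_zero ((map_ne_zero_iff σ σ.injective).2 u.ne_zero))
        · exact Or.inl ((mul_eq_right₀ hz0).1 hb'.symm)
        · rw [hbinv] at hb'
          exact Or.inr (mul_right_cancel₀ hz0 (by linear_combination -hb'))
      have hσu : σ (u : F) = (u : F) ^ 9 := (hσ _).trans (congrArg (fun n : ℕ => (u : F) ^ n) hq9)
      rw [hσu, ← pow_succ'] at hn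
      rw [show (20 : ℕ) = (9 + 1) * 2 from rfl, pow_mul]
      rcases hn with h0 | h0 <;> rw [h0] <;> ring
    have htq : t ∣ 20 := card_lamRange_dvd_of_pow hF hσ H f fun u hu => Units.ext (by
      rw [Units.val_pow_eq_pow_val, hlam u hu, Units.val_one])
    have hP9 : P' ≤ 9 := by
      rcases abar_le hF hσ (p := 3) H f with h0 | h0
      · exact h0.trans hq9.le
      · rw [h] at h0; exact h0
    rw [hbar] at hb
    rw [hq9] at hb
    norm_num at hb
    have h5' : ¬ 5 ∣ t := by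
      intro h5t
      haveI : Fact (Nat.Prime 5) := ⟨by norm_num⟩
      obtain ⟨u, hu⟩ := exists_prime_orderOf_dvd_card' 5 (ht ▸ h5t : 5 ∣ Nat.card (lamRange hF hσ H f))
      have hu5 : orderOf ((u.1 : F)) = 5 := by rw [orderOf_units, Subgroup.orderOf_coe, hu]
      have hσu : σ (u.1 : F) = (u.1 : F) ^ 9 := (hσ _).trans (congrArg (fun n : ℕ => (u.1 : F) ^ n) hq9)
      have h5u : (u.1 : F) ^ 5 = 1 := hu5 ▸ pow_orderOf_eq_one _
      have hm : (u.1 : F) * u.1 / σ u.1 = (u.1 : F) ^ 3 := by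
        rw [hσu, div_eq_iff (pow_ne_zero _ u.1.ne_zero), ← pow_add, ← pow_two]
        conv_rhs => rw [show 3 + 9 = 5 * 2 + 2 from rfl, pow_add, pow_mul, h5u, one_pow, one_mul]
      have hord : orderOf ((u.1 : F) * u.1 / σ u.1) = 5 := by
        rw [hm, orderOf_pow' _ (by norm_num : 3 ≠ 0), hu5]
        norm_num
      have hmod := abar_modEq hF hσ H f u.2 (by norm_num : Nat.Prime 5) hord
      have hpd : P' ∣ 3 ^ 4 := by
        have hcardF : Nat.card F = 3 ^ 4 := by rw [Nat.card_eq_fintype_card, hF, hq9]; norm_num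
        exact hP' ▸ hcardF ▸ AddSubgroup.card_addSubgroup_dvd_card _
      have key : ∀ r ≤ 9, r ∣ 3 ^ 4 → r % 5 = 1 → r = 1 := by decide +kernel
      have hP1 := key P' hP9 hpd (by rw [hP']; simpa [Nat.ModEq] using hmod)
      rw [hP1] at hb
      have := Nat.le_of_dvd (by norm_num) htq
      omega
    have hpd : P' ∣ 3 ^ 4 := by
      have hcardF : Nat.card F = 3 ^ 4 := by rw [Nat.card_eq_fintype_card, hF, hq9]; norm_num
      exact hP' ▸ hcardF ▸ AddSubgroup.card_addSubgroup_dvd_card _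
    have key : ∀ s ∈ Nat.divisors 20, ∀ r ≤ 9, r ∣ 3 ^ 4 → ¬ 5 ∣ s → 80 ≤ 3 * r * s → s = 4 ∧ r = 9 := by
      decide +kernel
    obtain ⟨ht4, hr9⟩ := key t (Nat.mem_divisors.2 ⟨htq, by norm_num⟩) P' hP9 hpd h5' hb
    refine no_nine hF hσ (p := 3) hq9 H ?_
    have hq3v : q ^ 3 + 1 = 730 := by rw [hq9]; norm_num
    rw [← card_point_stab hF hσ (p := 3) H f htr, card_stab_eq hF hσ (p := 3) H f, hbar, ← ht, hq3v, ht4, hr9]

set_option maxHeartbeats 1600000 in
/-- A subgroup of small index without elations. -/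
theorem case_tame (H : Subgroup SU3) (hZc : Subgroup.center SU3 ≤ H) (f : Fr F q)
    (htr : ∀ R : Pt F q, ∃ g ∈ H, g • f.P = R)
    (hq3 : 3 ≤ q) (h5 : q ≠ 5) (hbot : H ⊓ tSU f.x = ⊥)
    (hb : q ^ 2 - 1 ≤ Nat.card ↥(H ⊓ qSU f.x) * Nat.card (lamRange hF hσ H f)) : False := by
  classical
  haveI := finite_pt hF hσ
  have hbar := card_qSU_inter hF hσ H f (p := p)
  rw [hbot, Subgroup.card_bot, one_mul] at hbar
  set P' := Nat.card (abar hF hσ H f) with hP'
  set t := Nat.card (lamRange hF hσ H f) with ht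
  rw [hbar] at hb
  have htd : t ∣ q ^ 2 - 1 := card_lamRange_dvd hF hσ H f
  have hq21 : 0 < q ^ 2 - 1 := by
    have := Nat.pow_le_pow_left hq3 2
    omega
  -- bound on the kernel of the action on the line
  obtain ⟨a, ha0, hqa⟩ := exists_q_pow hF hσ (p := p)
  have hA : ∀ a ∈ abar hF hσ H f, ∀ b ∈ abar hF hσ H f, omega σ a b = 0 := by
    intro a ha b hb
    obtain ⟨g, hg, hgω⟩ := abar_omega hF hσ H f ha hb
    rw [hbot, Subgroup.mem_bot] at hg
    rw [← hgω, hg, f.beta_one hF hσ, zero_mul]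
  have hZu : ∀ g, g ∈ H → g ∈ tSU f.x → g = 1 := fun g h1 h2 => by
    have : g ∈ H ⊓ tSU f.x := ⟨h1, h2⟩
    rwa [hbot, Subgroup.mem_bot] at this
  -- the homology
  have hmain : ∀ ζ ∈ lamRange hF hσ H f, (ζ : F) * σ ζ = 1 → (ζ : F) ^ 3 ≠ 1 →
      ∀ n, (¬ p ∣ n) → (∀ k ∈ H ⊓ f.B, f.lam k = ζ → k ^ n = 1 ∨ Nat.card (abar hF hσ H f) ≠ 1) →
      (∃ k ∈ H ⊓ f.B, f.lam k = ζ ∧ k ^ n = 1) →
      ∀ N, (∀ g ∈ H ⊓ f.B, f.lam g * σ (f.lam g) = 1 → f.lam g ^ N = 1) → 0 < N →
      ∃ s k : ℕ, t = s * k ∧ k ≤ N ∧ (s ≤ 2 ∨ (q + 1) * s = 12 ∨ (q + 1) * s = 24 ∨ (q + 1) * s = 60) := by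
    intro ζ hζ hζn hζ3 n hpn _ ⟨h, hh, hlam, hhn⟩ N hN hNpos
    obtain ⟨f', hP, hB', hlam', hSE, hline, hcent⟩ :=
      exists_line hF hσ (p := p) f hh.2 (by rw [hlam]; exact hζn) (by rw [hlam]; exact hζ3) hhn hpn
    have hlamf : ∀ g ∈ f.B, f'.lam g = f.lam g := by
      intro g hg
      obtain ⟨c, hc⟩ := (pt_eq_iff _ _).1 hP.symm
      refine f'.lam_eq hF hσ ?_
      rw [hc, act_smul, f.lam_spec hF hσ hg, smul_smul, smul_smul, mul_comm]
    have hUeq : ∀ g, g ∈ qSU f.x → g ∈ qSU f'.x := fun g hg => by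
      obtain ⟨c, hc⟩ := (pt_eq_iff _ _).1 hP.symm
      rw [f'.mem_qSU_iff hF hσ, hc, act_smul, hg.1]
    have hTeq : ∀ g, g ∈ tSU f'.x → g ∈ tSU f.x := fun g hg => by
      obtain ⟨c, hc⟩ := (pt_eq_iff _ _).1 hP.symm
      have hc0 : c ≠ 0 := fun h0 => f'.x0 (by rw [hc, h0, zero_smul])
      rwa [hc, tSU_smul hc0 f.x (fun y => by
        rw [hsmul_right hF hσ, mul_eq_zero_iff_left (by simpa using hc0)])] at hg
    have hcommU : ∀ u ∈ H ⊓ qSU f.x, Commute u h → u = 1 := fun u hu hc =>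
      hZu u hu.1 (hTeq u ((f'.qSU_SE_iff hF hσ (hUeq u hu.2)).1 ((hcent u).1 hc)))
    -- all elements with the same multiplier are conjugate to it
    have hfib : ∀ k ∈ H ⊓ f.B, f.lam k = ζ → ∃ u ∈ H ⊓ qSU f.x, u * h * u⁻¹ = k := by
      intro k hk hkl
      let T := {k : SU3 // k ∈ H ⊓ f.B ∧ f.lam k = ζ}
      have hmk : ∀ u : ↥(H ⊓ qSU f.x), u.1 * h * u.1⁻¹ ∈ H ⊓ f.B ∧ f.lam (u.1 * h * u.1⁻¹) = ζ := by
        intro u
        have huB := f.qSU_le_B hF hσ u.2.2
        have hm := mul_mem (mul_mem huB hh.2) (Subgroup.inv_mem _ huB)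
        refine ⟨⟨mul_mem (mul_mem u.2.1 hh.1) (Subgroup.inv_mem _ u.2.1), hm⟩, ?_⟩
        rw [f.lam_mul hF hσ (mul_mem huB hh.2) (Subgroup.inv_mem _ huB), f.lam_mul hF hσ huB hh.2, mul_right_comm,
          ← f.lam_mul hF hσ huB (Subgroup.inv_mem _ huB), mul_inv_cancel, f.lam_one hF hσ, one_mul, hlam]
      have hinj : Function.Injective (fun u : ↥(H ⊓ qSU f.x) => (⟨_, hmk u⟩ : T)) := by
        intro u v e
        have e' : u.1 * h * u.1⁻¹ = v.1 * h * v.1⁻¹ := congrArg Subtype.val e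
        refine Subtype.ext (inv_mul_eq_one.1 (hcommU _ (mul_mem (Subgroup.inv_mem _ v.2) u.2) ?_)).symm
        show v.1⁻¹ * u.1 * h = h * (v.1⁻¹ * u.1)
        calc v.1⁻¹ * u.1 * h = v.1⁻¹ * (u.1 * h * u.1⁻¹) * u.1 := by group
          _ = v.1⁻¹ * (v.1 * h * v.1⁻¹) * u.1 := by rw [e']
          _ = h * (v.1⁻¹ * u.1) := by group
      have hcardT : Nat.card T ≤ Nat.card ↥(H ⊓ qSU f.x) := by
        refine Nat.card_le_card_of_injective (fun k : T => (⟨h⁻¹ * k.1, mul_mem (Subgroup.inv_mem _ hh.1) k.2.1.1,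
          (f.mem_qSU_iff hF hσ).2 ?_⟩ : ↥(H ⊓ qSU f.x)))
          fun a b e => Subtype.ext (mul_left_cancel (congrArg (fun z : ↥(H ⊓ qSU f.x) => z.1) e))
        rw [act_mul, f.lam_spec hF hσ k.2.1.2, k.2.2, ← hlam, act_smul, f.act_x_inv hF hσ hh.2, smul_smul,
          mul_inv_cancel₀ (f.lam_ne_zero hF hσ hh.2), one_smul]
      obtain ⟨u, hu⟩ := ((Nat.bijective_iff_injective_and_card _).2
        ⟨hinj, le_antisymm (Nat.card_le_card_of_injective _ hinj) hcardT⟩).2 ⟨k, hk, hkl⟩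
      exact ⟨u.1, u.2, congrArg Subtype.val hu⟩
    have hBeq : f'.B = f.B := by rw [Fr.B, Fr.B, hP]
    have hmemB : ∀ a, a ∈ (H ⊓ f'.SE) ⊓ f'.B → a ∈ f.B := fun a ha => by
      rw [← hBeq]; exact ha.2
    have hmemR : ∀ a (ha : a ∈ (H ⊓ f'.SE) ⊓ f'.B), f.lamHom hF hσ ⟨a, hmemB a ha⟩ ∈ lamRange hF hσ H f :=
      fun a ha => (mem_lamRange hF hσ).2 ⟨a, ⟨ha.1.1, hmemB a ha⟩, rfl⟩
    have hinjL : ∀ a, a ∈ (H ⊓ f'.SE) ⊓ f'.B → ∀ b, b ∈ (H ⊓ f'.SE) ⊓ f'.B → f.lam a = f.lam b → a = b := by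
      intro a ha b hb' e
      have haB := hmemB a ha
      have hbB := hmemB b hb'
      have hU : a⁻¹ * b ∈ qSU f.x := (f.mem_qSU_iff hF hσ).2 (by
        rw [act_mul, f.lam_spec hF hσ hbB, act_smul, f.act_x_inv hF hσ haB, smul_smul, ← e,
          mul_inv_cancel₀ (f.lam_ne_zero hF hσ haB), one_smul])
      exact inv_mul_eq_one.1 (hcommU (a⁻¹ * b) ⟨H.mul_mem (H.inv_mem ha.1.1) hb'.1.1, hU⟩
        ((hcent _).2 (f'.SE.mul_mem (f'.SE.inv_mem ha.1.2) hb'.1.2)))
    set L := H ⊓ f'.SE with hL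
    have htrL : ∀ R, f'.OnLine R → ∃ g ∈ L, g • f'.P = R := by
      intro R hR
      obtain ⟨g, hg, hgR⟩ := htr R
      subst hgR
      rw [Fr.P, pt_smul, f'.onLine_pt hF hσ] at hR
      have hkx : act (g⁻¹ * h * g) f.x = (ζ : F) • f.x := by
        rw [act_mul, act_mul, hline _ hR, hlam, act_smul, act_inv_apply]
      have hk : g⁻¹ * h * g ∈ H ⊓ f.B :=
        ⟨mul_mem (mul_mem (Subgroup.inv_mem _ hg) hh.1) hg, f.mem_B.2 ⟨_, hkx⟩⟩
      obtain ⟨u, hu, huh⟩ := hfib _ hk (f.lam_eq hF hσ hkx)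
      refine ⟨g * u, ⟨mul_mem hg hu.1, (hcent _).1 ?_⟩, ?_⟩
      · show g * u * h = h * (g * u)
        calc g * u * h = g * (u * h * u⁻¹) * u := by group
          _ = g * (g⁻¹ * h * g) * u := by rw [huh]
          _ = h * (g * u) := by group
      · rw [hP, mul_smul, show u • f.P = f.P from f.qSU_le_B hF hσ hu.2]
    have htame : ∀ g ∈ L, ∀ k : ℕ, g ^ p ^ k = 1 → g = 1 := by
      intro g hg k hk
      by_contra hg1
      obtain ⟨R, hR⟩ := exists_fixed_pt hF hσ (p := p) (P := Subgroup.zpowers g) (by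
        obtain ⟨i, -, hi⟩ := (Nat.dvd_prime_pow hp.out).1 (orderOf_dvd_of_pow_eq_one hk)
        exact IsPGroup.of_card (n := i) (by rw [Nat.card_zpowers, hi]))
      have hgR := hR g (Subgroup.mem_zpowers g)
      have hcg := (hcent g).2 hg.2
      have hhR : h • R = R := fixed_unique hF hσ hk hg1 hgR (by rw [← mul_smul, hcg.eq, mul_smul, hgR])
      obtain ⟨w, hw, rfl⟩ := exists_pt R
      obtain ⟨c, hc⟩ := smul_pt_eq_self.1 hhR
      have honl : f'.OnLine (pt w hw) := by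
        rw [f'.onLine_pt hF hσ]
        obtain ⟨m, hm⟩ := hSE
        have hd := Fr.decomp hF hσ f' w
        set W := h3 w f'.e / h3 f'.e f'.e with hW
        by_contra hne
        have hW0 : W ≠ 0 := div_ne_zero hne f'.hee
        have hx' := hline f'.x f'.hxe
        have hy' := hline f'.y f'.hye
        rw [hlam] at hx' hy'
        rw [hd, act_add, act_add, act_smul, act_smul, act_smul, hx', hy', hm] at hc
        have hce := congrArg (fun v => h3 v f'.e) hc
        have hcx := congrArg (fun v => h3 v f'.x) hc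
        have hcy := congrArg (fun v => h3 v f'.y) hc
        simp only [hadd_left hF hσ, hsmul_left hF hσ, f'.hx, f'.hy, f'.hxy, f'.hyx, f'.hex, f'.hey, f'.hxe,
          f'.hye, mul_zero, mul_one, add_zero, zero_add] at hce hcx hcy
        have hmζ : m ≠ (ζ : F) := by
          intro hmz
          obtain ⟨r', m', he', hm'⟩ := f'.act_e_B hF hσ hB'
          rw [hm] at he'
          have h0 := congrArg (fun v => h3 v f'.e) he'
          simp only [hadd_left hF hσ, hsmul_left hF hσ, f'.hxe, mul_zero, zero_add] at h0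
          rw [← mul_right_cancel₀ f'.hee h0, hlam', hlam, hmz] at hm'
          exact hζ3 (by rw [← hζn, ← hm']; ring)
        have hcm : c = m := by
          refine mul_right_cancel₀ (mul_ne_zero hW0 f'.hee) ?_
          linear_combination -hce
        rw [hcm] at hcx hcy
        have hA0 : h3 w f'.y = 0 := by
          have : (m - (ζ : F)) * h3 w f'.y = 0 := by linear_combination -hcy
          exact (mul_eq_zero.1 this).resolve_left (sub_ne_zero.2 hmζ)
        have hC0 : h3 w f'.x = 0 := by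
          have : (m - (ζ : F)) * h3 w f'.x = 0 := by linear_combination -hcx
          exact (mul_eq_zero.1 this).resolve_left (sub_ne_zero.2 hmζ)
        have hw2 := hw.2
        rw [hd, hA0, hC0, zero_smul, zero_smul, zero_add, add_zero, hsmul_left hF hσ, hsmul_right hF hσ] at hw2
        exact mul_ne_zero hW0 (mul_ne_zero ((map_ne_zero_iff σ σ.injective).2 hW0) f'.hee) hw2
      obtain ⟨g₁, hg₁, hg₁R⟩ := htrL _ honl
      set u := g₁⁻¹ * g * g₁ with hu
      have huL : u ∈ L := mul_mem (mul_mem (Subgroup.inv_mem _ hg₁) hg) hg₁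
      have huB : u ∈ f'.B := by
        show u • f'.P = f'.P
        rw [hu, mul_smul, mul_smul, hg₁R, hgR, ← hg₁R, inv_smul_smul]
      have hupow : u ^ p ^ k = 1 := by
        rw [hu, show g₁⁻¹ * g * g₁ = g₁⁻¹ * g * g₁⁻¹⁻¹ by rw [inv_inv], conj_pow, hk]
        group
      have huU := f'.mem_qSU_of_pow hF hσ huB hupow
      have hu1 := hZu u huL.1 (hTeq u ((f'.qSU_SE_iff hF hσ huU).1 huL.2))
      apply hg1
      rw [show g = g₁ * u * g₁⁻¹ by rw [hu]; group, hu1]
      group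
    obtain ⟨s, k, hsk, hk, hcases⟩ := line_tame hF hσ (p := p) f' L inf_le_right hq3 htame htrL
    have hCt : Nat.card ↥(L ⊓ f'.B) = t := by
      refine le_antisymm ?_ ?_
      · refine Nat.card_le_card_of_injective (fun g : ↥(L ⊓ f'.B) =>
          (⟨f.lamHom hF hσ ⟨g.1, hmemB g.1 g.2⟩, hmemR g.1 g.2⟩ : lamRange hF hσ H f)) fun a b e => ?_
        exact Subtype.ext (hinjL a.1 a.2 b.1 b.2 (congrArg (fun z : lamRange hF hσ H f => ((z.1 : Fˣ) : F)) e))
      · have hsurj : ∀ u : lamRange hF hσ H f, ∃ g : ↥(L ⊓ f'.B), f.lam g.1 = (u.1 : F) := by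
          intro u
          obtain ⟨k, hk, hku⟩ := (mem_lamRange hF hσ).1 u.2
          have hm : k * h * k⁻¹ ∈ H ⊓ f.B := mul_mem (mul_mem hk hh) (Subgroup.inv_mem _ hk)
          have hl : f.lam (k * h * k⁻¹) = ζ := by
            rw [f.lam_mul hF hσ (mul_mem hk.2 hh.2) (Subgroup.inv_mem _ hk.2), f.lam_mul hF hσ hk.2 hh.2, mul_right_comm,
              ← f.lam_mul hF hσ hk.2 (Subgroup.inv_mem _ hk.2), mul_inv_cancel, f.lam_one hF hσ, one_mul, hlam]
          obtain ⟨v, hv, hvh⟩ := hfib _ hm hl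
          have hvB := f.qSU_le_B hF hσ hv.2
          refine ⟨⟨v⁻¹ * k, ⟨mul_mem (Subgroup.inv_mem _ hv.1) hk.1, (hcent _).1 ?_⟩, ?_⟩, ?_⟩
          · show v⁻¹ * k * h = h * (v⁻¹ * k)
            calc v⁻¹ * k * h = v⁻¹ * (k * h * k⁻¹) * k := by group
              _ = v⁻¹ * (v * h * v⁻¹) * k := by rw [hvh]
              _ = h * (v⁻¹ * k) := by group
          · show (v⁻¹ * k) • f'.P = f'.P
            rw [hP]
            exact mul_mem (Subgroup.inv_mem _ hvB) hk.2
          · show f.lam (v⁻¹ * k) = _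
            rw [f.lam_mul hF hσ (Subgroup.inv_mem _ hvB) hk.2, hku, f.lam_eq hF hσ (g := v⁻¹) (a := 1)
              (by rw [one_smul]; exact (Subgroup.inv_mem _ hv.2 : v⁻¹ ∈ qSU f.x).1), one_mul]
        choose g hg using hsurj
        exact Nat.card_le_card_of_injective g fun u v e =>
          Subtype.ext (Units.ext (by rw [← hg u, ← hg v, e]))
    refine ⟨s, k, hCt ▸ hsk, hk.trans ?_, hcases⟩
    let Q : Polynomial F := Polynomial.X ^ N - Polynomial.C 1
    have hQ : Q ≠ 0 := Polynomial.X_pow_sub_C_ne_zero hNpos 1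
    have hlamr : ∀ g : {g : ↥(L ⊓ f'.B) // f'.lam g.1 * σ (f'.lam g.1) = 1},
        f.lam g.1.1 ∈ Q.roots.toFinset := by
      intro g
      have hgB : g.1.1 ∈ f.B := hmemB g.1.1 g.1.2
      rw [Multiset.mem_toFinset, Polynomial.mem_roots hQ]
      have h0 := hN g.1.1 ⟨g.1.2.1.1, hgB⟩ (by rw [← hlamf _ hgB]; exact g.2)
      simp [Polynomial.IsRoot.def, Q, h0]
    refine le_trans (Nat.card_le_card_of_injective (fun g => (⟨f.lam g.1.1, hlamr g⟩ : Q.roots.toFinset))
      fun a b e => Subtype.ext (Subtype.ext (hinjL a.1.1 a.1.2 b.1.1 b.1.2 (congrArg Subtype.val e)))) ?_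
    · rw [Nat.card_eq_finsetCard]
      refine (Multiset.toFinset_card_le _).trans ((Polynomial.card_roots' Q).trans ?_)
      rw [Polynomial.natDegree_X_pow_sub_C]
  by_cases hP1 : P' = 1
  · -- no `p`-elements at all
    rw [hP1, one_mul] at hb
    have htq : t = q ^ 2 - 1 := le_antisymm (Nat.le_of_dvd hq21 htd) hb
    have hU : ∀ g ∈ H ⊓ f.B, f.lam g = 1 → g = 1 := by
      intro g hg h1
      have hc : Nat.card ↥(H ⊓ qSU f.x) = 1 := hbar.trans hP1
      have : g ∈ H ⊓ qSU f.x := ⟨hg.1, (f.mem_qSU_iff hF hσ).2 (by rw [f.lam_spec hF hσ hg.2, h1, one_smul])⟩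
      rwa [Subgroup.card_eq_one.1 hc, Subgroup.mem_bot] at this
    by_cases hq3' : q = 3
    · refine no_three hF hσ (p := p) hq3' H ?_
      have hq3v : q ^ 3 + 1 = 28 := by rw [hq3']; norm_num
      have htv : t = 8 := by rw [htq, hq3']; norm_num
      rw [← card_point_stab hF hσ (p := p) H f htr, card_stab_eq hF hσ (p := p) H f, hbar, hP1, one_mul, ← ht,
        hq3v, htv]
    obtain ⟨w, hw⟩ := IsCyclic.exists_ofOrder_eq_natCard (α := lamRange hF hσ H f)
    rw [← ht, htq, ← Subgroup.orderOf_coe, ← orderOf_units] at hw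
    set W : F := ((w.1 : Fˣ) : F) with hW
    have hsq : q ^ 2 - 1 = (q - 1) * (q + 1) := by
      have := Nat.sq_sub_sq q 1
      rw [one_pow] at this
      rw [this, mul_comm]
    have hqp1 : ¬ p ∣ q + 1 := fun h => hp.out.ne_one (Nat.dvd_one.1
      ((Nat.dvd_add_right (hqa ▸ dvd_pow_self p ha0.ne')).1 h))
    have hζn : (W ^ (q - 1)) * σ (W ^ (q - 1)) = 1 := by
      rw [hσ, ← pow_succ', ← pow_mul, ← hsq, ← hw, pow_orderOf_eq_one]
    have hζ3 : (W ^ (q - 1)) ^ 3 ≠ 1 := by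
      intro h
      rw [← pow_mul] at h
      have := Nat.le_of_dvd (by omega) (orderOf_dvd_of_pow_eq_one h)
      rw [hw, hsq] at this
      have := Nat.le_of_mul_le_mul_left this (by omega)
      omega
    obtain ⟨k, hk, hkl⟩ := (mem_lamRange hF hσ).1 (pow_mem w.2 (q - 1))
    rw [Units.val_pow_eq_pow_val] at hkl
    have hkn : k ^ (q + 1) = 1 := by
      refine hU _ (pow_mem hk _) ?_
      have h0 := congrArg (Units.val (α := F)) (map_pow (f.lamHom hF hσ) ⟨k, hk.2⟩ (q + 1))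
      rw [Units.val_pow_eq_pow_val, f.lamHom_apply hF hσ, f.lamHom_apply hF hσ] at h0
      simp only [SubgroupClass.coe_pow] at h0
      rw [h0, hkl, ← pow_mul, ← hsq, ← hw, pow_orderOf_eq_one]
    obtain ⟨s, k', hsk, hk', hcases⟩ := hmain _ (pow_mem w.2 (q - 1))
      (by rw [Units.val_pow_eq_pow_val]; exact hζn) (by rw [Units.val_pow_eq_pow_val]; exact hζ3)
      (q + 1) hqp1 (fun g hg hgl => Or.inl (by
        have hg1 : g * k⁻¹ = 1 := by
          refine hU _ (mul_mem hg (Subgroup.inv_mem _ hk)) (f.lam_eq hF hσ ?_)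
          rw [act_mul, f.act_x_inv hF hσ hk.2, act_smul, f.lam_spec hF hσ hg.2, hgl, hkl,
            Units.val_pow_eq_pow_val, smul_smul, inv_mul_cancel₀ (pow_ne_zero _ w.1.ne_zero)]
        rw [mul_inv_eq_one.1 hg1, hkn]))
      ⟨k, hk, by rw [Units.val_pow_eq_pow_val]; exact hkl, hkn⟩ (q + 1)
      (fun g _ hg => by rw [pow_succ', ← hσ]; exact hg) (Nat.succ_pos q)
    rw [htq, hsq] at hsk
    have hs : q - 1 ≤ s := by
      have := hsk ▸ Nat.mul_le_mul_left s hk'
      exact Nat.le_of_mul_le_mul_right this (Nat.succ_pos q)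
    have hq4 : 4 ≤ q := by omega
    rcases hcases with h | h
    · omega
    have h60 : (q + 1) * s ≤ 60 := by omega
    have hq7 : q ≤ 7 := by
      by_contra hc
      have := Nat.mul_le_mul (show 9 ≤ q + 1 by omega) (show 7 ≤ s by omega)
      omega
    have hs20 : s ≤ 20 := by
      have := Nat.mul_le_mul_right s (show 5 ≤ q + 1 by omega)
      omega
    have hk8 : k' ≤ 8 := by omega
    have key := case_key
    refine key q s k' hq7 hs20 hk8 hq4 h5 ?_ hsk hk' h
    intro h6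
    rw [h6] at hqa
    have h2 : (2 : ℕ) ∣ p ^ a := hqa ▸ (by norm_num)
    have h3' : (3 : ℕ) ∣ p ^ a := hqa ▸ (by norm_num)
    have e2 := (Nat.prime_dvd_prime_iff_eq Nat.prime_two hp.out).1 (Nat.prime_two.dvd_of_dvd_pow h2)
    have e3 := (Nat.prime_dvd_prime_iff_eq Nat.prime_three hp.out).1 (Nat.prime_three.dvd_of_dvd_pow h3')
    omega
  · -- an abelian `p`-part, contained in a line
    obtain ⟨a₀, ha₀, ha₀0⟩ : ∃ a ∈ abar hF hσ H f, a ≠ 0 := by
      by_contra hc
      push Not at hc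
      exact hP1 (Nat.card_eq_one_iff_unique.2
        ⟨⟨fun a b => Subtype.ext ((hc _ a.2).trans (hc _ b.2).symm)⟩, ⟨0⟩⟩)
    have hp2 : p ≠ 2 := by
      intro h2
      subst h2
      have h2F : (2 : F) = 0 := by exact_mod_cast CharP.cast_eq_zero F 2
      obtain ⟨g, hg, hga⟩ := ha₀
      obtain ⟨h1, h2'⟩ := f.sq_two hF hσ h2F hg.2
      rw [hZu _ (mul_mem hg.1 hg.1) h1, f.beta_one hF hσ, hga, eq_comm, div_eq_zero_iff] at h2'
      rcases mul_eq_zero.1 (h2'.resolve_right f.hee) with h' | h'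
      · exact ha₀0 h'
      · exact ha₀0 ((map_eq_zero_iff σ σ.injective).1 h')
    have hP'q : P' ≤ q := by
      refine le_trans (Nat.card_le_card_of_injective (fun b : abar hF hσ H f =>
        (⟨b.1 / a₀, omega_zero hF hσ (p := p) ha₀0 (hA a₀ ha₀ b.1 b.2)⟩ : {c : F // σ c = c}))
        fun x y e => Subtype.ext ((div_left_inj' ha₀0).1 (congrArg Subtype.val e))) (card_skew_fixed hF hσ).2.le
    have hμ : ∀ u ∈ lamRange hF hσ H f, σ ((u : F) ^ 3) = (u : F) ^ 3 := by
      intro u hu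
      have hσu : σ (u : F) ≠ 0 := (map_ne_zero_iff σ σ.injective).2 u.ne_zero
      have h0 := omega_zero hF hσ (p := p) ha₀0 (hA a₀ ha₀ _ (abar_smul hF hσ H f hu ha₀))
      rw [mul_div_cancel_right₀ _ ha₀0, map_div₀, map_mul, CfsgLib.UnitarySpec.sigma_sigma hF hσ,
        div_eq_div_iff u.ne_zero hσu] at h0
      rw [map_pow]
      linear_combination h0
    have htd3 : t ∣ 3 * (q - 1) := card_lamRange_dvd_of_pow hF hσ H f fun u hu => Units.ext (by
      have h0 := hμ u hu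
      rw [hσ] at h0
      have hne : ((u : F) ^ 3) ≠ 0 := pow_ne_zero _ u.ne_zero
      have h1 : ((u : F) ^ 3) ^ (q - 1) = 1 := by
        refine mul_right_cancel₀ hne ?_
        rw [← pow_succ, Nat.sub_add_cancel (by omega), h0, one_mul]
      rw [Units.val_pow_eq_pow_val, pow_mul, h1, Units.val_one])
    have hpd : P' ∣ p ^ (a * 2) := by
      have hcardF : Nat.card F = p ^ (a * 2) := by rw [Nat.card_eq_fintype_card, hF, pow_mul, ← hqa]
      exact hP' ▸ hcardF ▸ AddSubgroup.card_addSubgroup_dvd_card _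
    obtain ⟨b, -, hPb⟩ := (Nat.dvd_prime_pow hp.out).1 hpd
    have hp3' : 3 ≤ p := by
      have := hp.out.two_le
      omega
    have hsq : q ^ 2 - 1 = (q + 1) * (q - 1) := by
      rw [← Nat.sq_sub_sq, one_pow]
    have h3q : 3 ∣ q + 1 := by
      by_contra h3'
      have hcop : Nat.Coprime 3 (q + 1) := (Nat.prime_three.coprime_iff_not_dvd).2 h3'
      have : t ∣ q - 1 := by
        have h1 : t ∣ Nat.gcd (3 * (q - 1)) ((q + 1) * (q - 1)) := Nat.dvd_gcd htd3 (hsq ▸ htd)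
        rwa [Nat.gcd_mul_right, hcop.gcd_eq_one, one_mul] at h1
      have := Nat.mul_le_mul hP'q (Nat.le_of_dvd (by omega) this)
      have h1 : q * (q - 1) < q ^ 2 - 1 := by
        rw [hsq]
        exact Nat.mul_lt_mul_of_pos_right (Nat.lt_succ_self q) (by omega)
      omega
    have hPq : P' = q := by
      by_contra hne
      have hba : b < a := by
        refine (Nat.pow_lt_pow_iff_right (by omega : 1 < p)).1 ?_
        rw [← hPb, ← hqa]
        omega
      have h1 : P' * 3 ≤ q := by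
        rw [hPb, hqa]
        exact (Nat.mul_le_mul_left _ hp3').trans
          (le_of_eq_of_le (pow_succ p b).symm (Nat.pow_le_pow_right hp.out.pos hba))
      have h2 := Nat.mul_le_mul h1 (Nat.le_of_dvd (by omega) htd3)
      have h3' : q * (q - 1) < q ^ 2 - 1 := by
        rw [hsq]
        exact Nat.mul_lt_mul_of_pos_right (Nat.lt_succ_self q) (by omega)
      have h4 : q * (3 * (q - 1)) = 3 * (q * (q - 1)) := by ring
      have h5' : P' * 3 * t = 3 * (P' * t) := by ring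
      omega
    rw [hPq] at hb hbar
    have htgt : q - 1 < t := by
      by_contra hle
      push Not at hle
      have := Nat.mul_le_mul_left q hle
      have h3' : q * (q - 1) < q ^ 2 - 1 := by
        rw [hsq]
        exact Nat.mul_lt_mul_of_pos_right (Nat.lt_succ_self q) (by omega)
      omega
    obtain ⟨c, hc⟩ := htd3
    have hc2 : c = 1 ∨ c = 2 := by
      rcases c with _ | _ | _ | c
      · omega
      · exact Or.inl rfl
      · exact Or.inr rfl
      · exfalso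
        have h' : t * 3 ≤ 3 * (q - 1) := hc ▸ (Nat.mul_le_mul_left t (show 3 ≤ c + 1 + 1 + 1 by omega))
        omega
    -- an involution at the point
    have hqodd : Odd q := hqa ▸ (hp.out.odd_of_ne_two hp2).pow
    have h2H : 2 ∣ Nat.card H := by
      rw [← card_point_stab hF hσ (p := p) H f htr]
      exact dvd_mul_of_dvd_left (Odd.add_odd hqodd.pow odd_one).two_dvd _
    haveI : Fact (Nat.Prime 2) := ⟨Nat.prime_two⟩
    obtain ⟨i, hi⟩ := exists_prime_orderOf_dvd_card' 2 h2H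
    rw [← Subgroup.orderOf_coe] at hi
    have hi2 : i.1 ^ 2 = 1 := hi ▸ pow_orderOf_eq_one i.1
    obtain ⟨R, hR⟩ := invol_fixed hF hσ (p := p) hp2 (by rw [← pow_two]; exact hi2)
    obtain ⟨g, hg, hgR⟩ := htr R
    set k := g⁻¹ * i.1 * g with hk
    have hkB : k ∈ H ⊓ f.B := ⟨mul_mem (mul_mem (Subgroup.inv_mem _ hg) i.2) hg, by
      show k • f.P = f.P
      rw [hk, mul_smul, mul_smul, hgR, hR, ← hgR, inv_smul_smul]⟩
    have hk2 : k ^ 2 = 1 := by
      rw [hk, show g⁻¹ * i.1 * g = g⁻¹ * i.1 * g⁻¹⁻¹ by rw [inv_inv], conj_pow, hi2]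
      group
    have hk1 : k ≠ 1 := by
      intro h0
      rw [hk] at h0
      have : i.1 = 1 := by
        calc i.1 = g * (g⁻¹ * i.1 * g) * g⁻¹ := by group
          _ = 1 := by rw [h0]; group
      rw [this, orderOf_one] at hi
      omega
    have hlk : f.lam k * f.lam k = 1 := by
      rw [← f.lam_mul hF hσ hkB.2 hkB.2, ← pow_two, hk2, f.lam_one hF hσ]
    have hlne : f.lam k ≠ 1 := by
      intro h0
      have hU : k ∈ qSU f.x := (f.mem_qSU_iff hF hσ).2 (by rw [f.lam_spec hF hσ hkB.2, h0, one_smul])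
      obtain ⟨j, hj⟩ := f.isPGroup_qSU' hF hσ (p := p) ⟨k, hU⟩
      have hd := orderOf_dvd_of_pow_eq_one (x := k) (by simpa using congrArg Subtype.val hj)
      rw [orderOf_eq_prime hk2 hk1] at hd
      exact hp2 ((Nat.prime_dvd_prime_iff_eq Nat.prime_two hp.out).1 (Nat.prime_two.dvd_of_dvd_pow hd)).symm
    have hm1 : f.lam k = -1 := (mul_self_eq_one_iff.1 hlk).resolve_left hlne
    set ζ := f.lamHom hF hσ ⟨k, hkB.2⟩ with hζdef
    have hζmem : ζ ∈ lamRange hF hσ H f := (mem_lamRange hF hσ).2 ⟨k, hkB, rfl⟩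
    have hζv : (ζ : F) = -1 := hm1
    obtain ⟨s, k', hsk, hk', hcases⟩ := hmain ζ hζmem
      (by rw [hζv, map_neg, map_one]; ring)
      (by rw [hζv]; norm_num; exact (hm1 ▸ hlne : (-1 : F) ≠ 1))
      2 (fun h => hp2 ((Nat.prime_dvd_prime_iff_eq hp.out Nat.prime_two).1 h))
      (fun _ _ _ => Or.inr hP1) ⟨k, hkB, rfl, hk2⟩ 6
      (fun g hg hgn => by
        have h0 : σ (f.lam g ^ 3) = f.lam g ^ 3 := hμ (f.lamHom hF hσ ⟨g, hg.2⟩)
          ((mem_lamRange hF hσ).2 ⟨g, hg, rfl⟩)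
        calc f.lam g ^ 6 = f.lam g ^ 3 * σ (f.lam g ^ 3) := by rw [h0]; ring
          _ = (f.lam g * σ (f.lam g)) ^ 3 := by rw [map_pow]; ring
          _ = 1 := by rw [hgn, one_pow]) (by norm_num)
    have hq11 : 11 ≤ q := by
      obtain ⟨m, hm⟩ := h3q
      obtain ⟨j, hj⟩ := hqodd
      omega
    have ht6 : t ≤ s * 6 := hsk ▸ Nat.mul_le_mul_left s hk'
    rcases hcases with h | h
    · rcases hc2 with rfl | rfl <;> omega
    have h60 : (q + 1) * s ≤ 60 := by omega
    have hq11' : q = 11 := by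
      have hs3 : 3 ≤ s := by rcases hc2 with rfl | rfl <;> omega
      have hq19 : q ≤ 19 := by
        have := Nat.mul_le_mul_left (q + 1) hs3
        omega
      obtain ⟨m, hm⟩ := h3q
      obtain ⟨j, hj⟩ := hqodd
      by_contra hne
      have hs4 : 4 ≤ s := by rcases hc2 with rfl | rfl <;> omega
      have := Nat.mul_le_mul (show 18 ≤ q + 1 by omega) hs4
      omega
    have ht30 : t = 30 := by
      have h2t : 2 ∣ t := by
        rw [ht]
        have ho : orderOf ζ = 2 := orderOf_eq_prime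
          (Units.ext (by rw [Units.val_pow_eq_pow_val, hζv, Units.val_one]; ring))
          (fun h0 => hlne (congrArg Units.val h0))
        exact ho ▸ Subgroup.orderOf_dvd_natCard _ hζmem
      rw [hq11'] at hc
      rcases hc2 with rfl | rfl <;> omega
    refine no_eleven hF hσ (p := p) hq11' H ?_ hZc f htr
    have hq3v : q ^ 3 + 1 = 1332 := by rw [hq11']; norm_num
    rw [← card_point_stab hF hσ (p := p) H f htr, card_stab_eq hF hσ (p := p) H f, hbar, ← ht, hq3v, ht30,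
      hq11']

/-- The main result in `SU(3, q)`. -/
theorem eq_top_of_card (hq3 : 3 ≤ q) (h5 : q ≠ 5) (H : Subgroup SU3) (hZc : Subgroup.center SU3 ≤ H)
    (hcard : (q ^ 2 - 1) * (q ^ 3 + 1) ≤ Nat.card H) : H = ⊤ := by
  obtain ⟨R⟩ := nonempty_pt hF hσ
  obtain ⟨f, -⟩ := exists_fr_pt hF hσ R
  have htr := transitive_of_large hF hσ (p := p) H hcard f.P
  by_contra hne
  have hlt : ¬ tSU f.x ≤ H := fun h => hne (contains_transvections hF hσ (p := p) H f h htr hq3)
  have hb : q ^ 2 - 1 ≤ Nat.card ↥(H ⊓ qSU f.x) * Nat.card (lamRange hF hσ H f) := by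
    rw [← card_stab_eq hF hσ (p := p) H f]
    have h1 := card_point_stab hF hσ (p := p) H f htr
    rw [← h1, mul_comm (q ^ 2 - 1)] at hcard
    exact Nat.le_of_mul_le_mul_left hcard (Nat.succ_pos _)
  by_cases hbot : H ⊓ tSU f.x = ⊥
  · exact case_tame hF hσ (p := p) H hZc f htr hq3 h5 hbot hb
  · exact case_elations hF hσ (p := p) H f htr hq3 h5 hbot hlt hb

omit hσ hp [CharP F p] in
theorem min_index (hq3 : 3 ≤ q) (h5 : q ≠ 5) :
    (∀ H : Subgroup (Cfsg.PSU 3 F q), H ≠ ⊤ → q ^ 3 + 1 ≤ H.index) ∧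
      ∃ H : Subgroup (Cfsg.PSU 3 F q), H.index = q ^ 3 + 1 := by
  obtain ⟨σ₀, hσ₀, hinv, -⟩ := CfsgLib.Classical.exists_qPow hF
  let τ : F ≃+* F := RingEquiv.ofBijective σ₀ ⟨σ₀.injective, fun a => ⟨σ₀ a, hinv a⟩⟩
  have hτ : ∀ a, τ a = a ^ q := hσ₀
  obtain ⟨p', hp'⟩ := CharP.exists F
  haveI : Fact p'.Prime := ⟨CharP.char_is_prime F p'⟩
  haveI := finite_pt hF hτ
  let π : SU3 →* Cfsg.PSU 3 F q := QuotientGroup.mk' _
  have hπ : Function.Surjective π := QuotientGroup.mk'_surjective _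
  have hker : π.ker = Subgroup.center SU3 := QuotientGroup.ker_mk' _
  refine ⟨fun H hH => ?_, ?_⟩
  · by_contra hlt
    push Not at hlt
    refine hH ?_
    have hidx : (H.comap π).index = H.index := Subgroup.index_comap_of_surjective H hπ
    have h1 := (H.comap π).card_mul_index
    rw [hidx, card_su_three hF hτ] at h1
    have hle : (q ^ 2 - 1) * (q ^ 3 + 1) ≤ Nat.card (H.comap π) := by
      have h2 : Nat.card (H.comap π) * H.index ≤ Nat.card (H.comap π) * q ^ 3 :=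
        Nat.mul_le_mul_left _ (by omega)
      rw [h1, mul_comm (q ^ 3)] at h2
      exact Nat.le_of_mul_le_mul_right h2 (by positivity)
    have htop := eq_top_of_card hF hτ (p := p') hq3 h5 (H.comap π)
      (hker.symm.le.trans (MonoidHom.ker_le_comap π H)) hle
    rw [← Subgroup.map_comap_eq_self_of_surjective hπ H, htop, Subgroup.map_top_of_surjective π hπ]
  · obtain ⟨R⟩ := nonempty_pt hF hτ
    refine ⟨(MulAction.stabilizer SU3 R).map π, ?_⟩
    rw [Subgroup.index_map_eq _ hπ ?_]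
    · rw [MulAction.index_stabilizer]
      rw [show MulAction.orbit SU3 R = Set.univ from Set.eq_univ_of_forall fun T => exists_smul_eq hF hτ R T,
        Set.ncard_univ, card_pt hF hτ]
    · rw [hker]
      intro c hc
      obtain ⟨x, hx, rfl⟩ := exists_pt R
      refine smul_pt_eq_self.2 ?_
      obtain ⟨d, hd⟩ := exists_scalar hF hτ (by omega : 2 ≤ 3) (g := 1) (g' := c)
        (by
          rw [map_one]
          exact ((QuotientGroup.eq_one_iff c).2 hc).symm)
      exact ⟨d, by rw [hd, act_one]⟩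

end CfsgLib.U3MinIndex
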