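import Cfsg.Agent.Lib.QdFreeU3.Main
import Cfsg.Agent.Lib.Classical.HermOrder

/-!
# The unital of `SU(3, q)`

Isotropic points, hyperbolic frames and the coordinates of the stabiliser of a point.
-/

set_option autoImplicit false
set_option linter.unusedSectionVars false

namespace CfsgLib.U3MinIndex

open Matrix CfsgLib.PSUAut CfsgLib.QdFreeU3
open scoped LinearAlgebra.Projectivization

variable {F : Type*} [Field F] {q : ℕ}

local notation "V3" => Fin 3 → F
local notation "h3" => Cfsg.hermForm 3 F q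
local notation "SU3" => (Cfsg.SU 3 F q)

theorem form_smul (c : F) (v : V3) : h3 (c • v) (c • v) = c * c ^ q * h3 v v := by
  simp only [Cfsg.hermForm, Pi.smul_apply, smul_eq_mul, mul_pow, Finset.mul_sum]
  exact Finset.sum_congr rfl fun i _ => by ring

/-- The isotropic points. -/
abbrev Pt (F : Type*) [Field F] (q : ℕ) :=
  {P : ℙ F (Fin 3 → F) // Cfsg.hermForm 3 F q P.rep P.rep = 0}

/-- The point of an isotropic vector. -/
def pt (x : V3) (hx : Isot q x) : Pt F q :=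
  ⟨Projectivization.mk F x hx.1, by
    obtain ⟨a, ha⟩ := Projectivization.exists_smul_eq_mk_rep F x hx.1
    rw [← ha, Units.smul_def, form_smul, hx.2, mul_zero]⟩

theorem pt_eq_iff {x y : V3} (hx : Isot q x) (hy : Isot q y) :
    pt x hx = pt y hy ↔ ∃ a : F, y = a • x := by
  rw [eq_comm, pt, pt, Subtype.mk_eq_mk, Projectivization.mk_eq_mk_iff']
  constructor <;> rintro ⟨a, ha⟩ <;> exact ⟨a, ha.symm⟩

theorem exists_pt (P : Pt F q) : ∃ (x : V3) (hx : Isot q x), P = pt x hx :=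
  ⟨P.1.rep, ⟨P.1.rep_nonzero, P.2⟩, Subtype.ext P.1.mk_rep.symm⟩

noncomputable instance : SMul SU3 (Pt F q) :=
  ⟨fun g P => pt (act g P.1.rep) (Isot.act g ⟨P.1.rep_nonzero, P.2⟩)⟩

theorem pt_smul (g : SU3) (x : V3) (hx : Isot q x) : g • pt x hx = pt (act g x) (Isot.act g hx) := by
  show pt (act g (pt x hx).1.rep) _ = _
  rw [pt_eq_iff]
  obtain ⟨a, ha⟩ := Projectivization.exists_smul_eq_mk_rep F x hx.1
  refine ⟨((a⁻¹ : Fˣ) : F), ?_⟩
  show act g x = _
  rw [show (pt x hx).1.rep = (a : F) • x from ha.symm, act_smul, smul_smul, Units.inv_mul, one_smul]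

noncomputable instance : MulAction SU3 (Pt F q) where
  one_smul P := by
    obtain ⟨x, hx, rfl⟩ := exists_pt P
    rw [pt_smul, pt_eq_iff]
    exact ⟨1, by rw [act_one, one_smul]⟩
  mul_smul g g' P := by
    obtain ⟨x, hx, rfl⟩ := exists_pt P
    rw [pt_smul, pt_smul, pt_smul, pt_eq_iff]
    exact ⟨1, by rw [act_mul, one_smul]⟩

theorem smul_pt_eq_self {g : SU3} {x : V3} {hx : Isot q x} :
    g • pt x hx = pt x hx ↔ ∃ a : F, act g x = a • x := by
  rw [pt_smul, eq_comm, pt_eq_iff]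

/-- A hyperbolic frame. -/
structure Fr (F : Type*) [Field F] (q : ℕ) where
  x : Fin 3 → F
  e : Fin 3 → F
  y : Fin 3 → F
  hx : Cfsg.hermForm 3 F q x x = 0
  hy : Cfsg.hermForm 3 F q y y = 0
  hyx : Cfsg.hermForm 3 F q y x = 1
  hxy : Cfsg.hermForm 3 F q x y = 1
  hex : Cfsg.hermForm 3 F q e x = 0
  hey : Cfsg.hermForm 3 F q e y = 0
  hxe : Cfsg.hermForm 3 F q x e = 0
  hye : Cfsg.hermForm 3 F q y e = 0
  hee : Cfsg.hermForm 3 F q e e ≠ 0
  x0 : x ≠ 0
  y0 : y ≠ 0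
  span : ∀ w, ∃ a b c : F, w = a • x + b • e + c • y
  li : LinearIndependent F ![x, e, y]

namespace Fr

variable (f : Fr F q)

theorem isotX : Isot q f.x := ⟨f.x0, f.hx⟩
theorem isotY : Isot q f.y := ⟨f.y0, f.hy⟩

/-- The first point of a frame. -/
def P : Pt F q := pt f.x f.isotX

/-- The last point of a frame. -/
def R : Pt F q := pt f.y f.isotY

/-- The stabiliser of the first point. -/
noncomputable def B : Subgroup SU3 := MulAction.stabilizer SU3 f.P

theorem mem_B {g : SU3} : g ∈ f.B ↔ ∃ a : F, act g f.x = a • f.x := smul_pt_eq_self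

/-- The multiplier on the first vector. -/
def lam (g : SU3) : F := h3 (act g f.x) f.y

/-- The first coordinate of a unipotent element. -/
def alpha (g : SU3) : F := h3 (act g f.e) f.y

/-- The second coordinate of a unipotent element. -/
def beta (g : SU3) : F := h3 (act g f.y) f.y

end Fr

variable [Fintype F] (hF : Fintype.card F = q ^ 2) {σ : F ≃+* F} (hσ : ∀ a, σ a = a ^ q)

include hF hσ

theorem iso_perp {x y : V3} (hx : Isot q x) (hy : Isot q y) (h : h3 y x = 0) : ∃ a : F, y = a • x := by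
  obtain ⟨p, hp⟩ := exists_partner hF hσ hx.1
  obtain ⟨e, hex, -, hee, -, hsp⟩ := frame hF hσ hx.2 hp
  obtain ⟨a, b, rfl⟩ := hsp y h
  have hxe : h3 x e = 0 := (hcomm hF hσ _ _).1 hex
  have := hy.2
  simp only [hadd_left hF hσ, hadd_right hF hσ, hsmul_left hF hσ, hsmul_right hF hσ, hx.2, hex,
    hxe, mul_zero, zero_add] at this
  rcases mul_eq_zero.1 this with hb | hb
  · exact ⟨a, by rw [hb, zero_smul, add_zero]⟩
  rcases mul_eq_zero.1 hb with hb | hb
  · exact ⟨a, by rw [(map_eq_zero_iff σ σ.injective).1 hb, zero_smul, add_zero]⟩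
  · exact absurd hb hee

theorem exists_fr_pair {x y : V3} (hx : Isot q x) (hy : Isot q y) (hne : pt x hx ≠ pt y hy) :
    ∃ f : Fr F q, f.x = x ∧ ∃ c : F, c ≠ 0 ∧ f.y = c • y := by
  have hyx : h3 y x ≠ 0 := fun h => hne ((pt_eq_iff hx hy).2 (iso_perp hF hσ hx hy h))
  set y' := (h3 y x)⁻¹ • y with hy'
  have h1 : h3 y' x = 1 := by rw [hy', hsmul_left hF hσ, inv_mul_cancel₀ hyx]
  have h2 : h3 y' y' = 0 := by rw [hy', hsmul_left hF hσ, hsmul_right hF hσ, hy.2, mul_zero, mul_zero]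
  have h3' : h3 x y' = 1 := by rw [hconj hF hσ y' x, h1, map_one]
  obtain ⟨e, hex, hey, hee, hli, -⟩ := frame hF hσ hx.2 h1
  refine ⟨⟨x, e, y', hx.2, h2, h1, h3', hex, hey, (hcomm hF hσ _ _).1 hex, (hcomm hF hσ _ _).1 hey,
    hee, hx.1, fun h0 => by rw [h0, hzero_left hF hσ] at h1; exact zero_ne_one h1, fun w => ?_, hli⟩,
    rfl, _, inv_ne_zero hyx, rfl⟩
  have hsp : w ∈ Submodule.span F (Set.range ![x, e, y']) := by
    rw [hli.span_eq_top_of_card_eq_finrank' (by simp)]; exact Submodule.mem_top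
  obtain ⟨g, hg⟩ := (Submodule.mem_span_range_iff_exists_fun F).1 hsp
  refine ⟨g 0, g 1, g 2, ?_⟩
  rw [← hg, Fin.sum_univ_three]
  rfl

theorem exists_fr {x : V3} (hx : Isot q x) : ∃ f : Fr F q, f.x = x := by
  obtain ⟨p, hp⟩ := exists_partner hF hσ hx.1
  obtain ⟨a, h1, h2, h3'⟩ := exists_iso_shift hF hσ hx.2 hp
  obtain ⟨f, hf, -⟩ := exists_fr_pair hF hσ hx ⟨h3', h1⟩ (fun h => by
    obtain ⟨c, hc⟩ := (pt_eq_iff hx ⟨h3', h1⟩).1 h
    rw [hc, hsmul_left hF hσ, hx.2, mul_zero] at h2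
    exact zero_ne_one h2)
  exact ⟨f, hf⟩

theorem exists_fr_pt (P : Pt F q) : ∃ f : Fr F q, f.P = P := by
  obtain ⟨x, hx, rfl⟩ := exists_pt P
  obtain ⟨f, hf⟩ := exists_fr hF hσ hx
  exact ⟨f, Subtype.ext ((Projectivization.mk_eq_mk_iff' F _ _ _ _).2 ⟨1, by rw [one_smul, hf]⟩)⟩

theorem exists_fr_pts {P R : Pt F q} (hne : P ≠ R) : ∃ f : Fr F q, f.P = P ∧ f.R = R := by
  obtain ⟨x, hx, rfl⟩ := exists_pt P
  obtain ⟨y, hy, rfl⟩ := exists_pt R
  obtain ⟨f, hf, c, hc, hfy⟩ := exists_fr_pair hF hσ hx hy hne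
  refine ⟨f, (pt_eq_iff _ _).2 ⟨1, by rw [one_smul, hf]⟩, (pt_eq_iff _ _).2 ⟨c⁻¹, ?_⟩⟩
  rw [hfy, smul_smul, inv_mul_cancel₀ hc, one_smul]

namespace Fr

variable (f : Fr F q)

theorem decomp (w : V3) :
    w = h3 w f.y • f.x + (h3 w f.e / h3 f.e f.e) • f.e + h3 w f.x • f.y := by
  obtain ⟨a, b, c, rfl⟩ := f.span w
  simp only [hadd_left hF hσ, hsmul_left hF hσ, f.hx, f.hy, f.hxy, f.hyx, f.hex, f.hey, f.hxe, f.hye,
    mul_zero, mul_one, add_zero, zero_add, mul_div_cancel_right₀ _ f.hee]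

theorem hee_fixed : σ (h3 f.e f.e) = h3 f.e f.e := hself hF hσ _

theorem lam_spec {g : SU3} (hg : g ∈ f.B) : act g f.x = f.lam g • f.x := by
  obtain ⟨a, ha⟩ := f.mem_B.1 hg
  rw [Fr.lam, ha, hsmul_left hF hσ, f.hxy, mul_one]

theorem lam_eq {g : SU3} {a : F} (h : act g f.x = a • f.x) : f.lam g = a := by
  rw [Fr.lam, h, hsmul_left hF hσ, f.hxy, mul_one]

theorem lam_one : f.lam 1 = 1 := f.lam_eq hF hσ (by rw [act_one, one_smul])

theorem lam_mul {g g' : SU3} (hg : g ∈ f.B) (hg' : g' ∈ f.B) : f.lam (g * g') = f.lam g * f.lam g' :=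
  f.lam_eq hF hσ (by rw [act_mul, f.lam_spec hF hσ hg', act_smul, f.lam_spec hF hσ hg, smul_smul,
    mul_comm])

theorem lam_ne_zero {g : SU3} (hg : g ∈ f.B) : f.lam g ≠ 0 := fun h =>
  act_ne_zero g f.x0 (by rw [f.lam_spec hF hσ hg, h, zero_smul])

/-- The multiplier as a homomorphism. -/
noncomputable def lamHom : f.B →* Fˣ where
  toFun g := Units.mk0 (f.lam g.1) (f.lam_ne_zero hF hσ g.2)
  map_one' := Units.ext (f.lam_one hF hσ)
  map_mul' g g' := Units.ext (f.lam_mul hF hσ g.2 g'.2)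

theorem lamHom_apply (g : f.B) : (f.lamHom hF hσ g : F) = f.lam g.1 := rfl

theorem mem_qSU_iff {g : SU3} : g ∈ qSU f.x ↔ act g f.x = f.x :=
  ⟨fun h => h.1, fun h => mem_qSU_of_fix hF hσ f.isotX h⟩

theorem qSU_le_B : (qSU f.x : Subgroup SU3) ≤ f.B := fun g hg =>
  f.mem_B.2 ⟨1, by rw [one_smul]; exact hg.1⟩

theorem ker_lamHom {g : f.B} : f.lamHom hF hσ g = 1 ↔ g.1 ∈ qSU f.x := by
  rw [f.mem_qSU_iff hF hσ, Units.ext_iff, f.lamHom_apply hF hσ, Units.val_one]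
  constructor
  · intro h
    rw [f.lam_spec hF hσ g.2, h, one_smul]
  · intro h
    exact f.lam_eq hF hσ (by rw [one_smul, h])

theorem form_x (w : V3) {g : SU3} (hg : g ∈ qSU f.x) : h3 (act g w) f.x = h3 w f.x := by
  conv_lhs => rw [← hg.1]
  exact act_form g w f.x

theorem act_e {g : SU3} (hg : g ∈ qSU f.x) : act g f.e = f.alpha g • f.x + f.e := by
  obtain ⟨d, hd⟩ := Submodule.mem_span_singleton.1 (hg.2 f.e f.hex)
  have h1 : act g f.e = d • f.x + f.e := by rw [hd]; abel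
  have : f.alpha g = d := by
    rw [Fr.alpha, h1, hadd_left hF hσ, hsmul_left hF hσ, f.hxy, f.hey]; ring
  rw [h1, this]

theorem act_y {g : SU3} (hg : g ∈ qSU f.x) :
    act g f.y = f.beta g • f.x + (-(σ (f.alpha g)) / h3 f.e f.e) • f.e + f.y := by
  have hd := decomp hF hσ f (act g f.y)
  have hx : h3 (act g f.y) f.x = 1 := by rw [f.form_x hF hσ _ hg, f.hyx]
  have he : h3 (act g f.y) f.e = -σ (f.alpha g) := by
    have h0 := act_form g f.y f.e
    rw [f.act_e hF hσ hg, f.hye, hadd_right hF hσ, hsmul_right hF hσ, hx] at h0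
    linear_combination h0
  rw [hx, he, one_smul] at hd
  exact hd

theorem alpha_mul {g g' : SU3} (hg : g ∈ qSU f.x) (hg' : g' ∈ qSU f.x) :
    f.alpha (g * g') = f.alpha g + f.alpha g' := by
  rw [Fr.alpha, act_mul, f.act_e hF hσ hg', act_add, act_smul, hg.1, f.act_e hF hσ hg]
  simp only [hadd_left hF hσ, hsmul_left hF hσ, f.hxy, f.hey]
  ring

theorem beta_mul {g g' : SU3} (hg : g ∈ qSU f.x) (hg' : g' ∈ qSU f.x) :
    f.beta (g * g') = f.beta g + f.beta g' - f.alpha g * σ (f.alpha g') / h3 f.e f.e := by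
  rw [Fr.beta, act_mul, f.act_y hF hσ hg', act_add, act_add, act_smul, act_smul, hg.1, f.act_e hF hσ hg,
    f.act_y hF hσ hg]
  simp only [hadd_left hF hσ, hsmul_left hF hσ, f.hxy, f.hey, f.hy]
  ring

theorem alpha_one : f.alpha 1 = 0 := by rw [Fr.alpha, act_one, f.hey]

theorem beta_one : f.beta 1 = 0 := by rw [Fr.beta, act_one, f.hy]

theorem eq_of_coords {g g' : SU3} (hg : g ∈ qSU f.x) (hg' : g' ∈ qSU f.x)
    (ha : f.alpha g = f.alpha g') (hb : f.beta g = f.beta g') : g = g' := by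
  refine act_ext fun w => ?_
  obtain ⟨a, b, c, rfl⟩ := f.span w
  simp only [act_add, act_smul, hg.1, hg'.1, f.act_e hF hσ hg, f.act_e hF hσ hg', f.act_y hF hσ hg,
    f.act_y hF hσ hg', ha, hb]

theorem beta_relation {g : SU3} (hg : g ∈ qSU f.x) :
    f.beta g + σ (f.beta g) + f.alpha g * σ (f.alpha g) / h3 f.e f.e = 0 := by
  have h0 := act_form g f.y f.y
  have he := f.hee
  rw [f.act_y hF hσ hg, f.hy] at h0
  simp only [hadd_left hF hσ, hadd_right hF hσ, hsmul_left hF hσ, hsmul_right hF hσ, f.hx, f.hy, f.hxy,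
    f.hyx, f.hex, f.hey, f.hxe, f.hye, map_neg, map_div₀, f.hee_fixed hF hσ,
    CfsgLib.UnitarySpec.sigma_sigma hF hσ] at h0
  field_simp at h0 ⊢
  linear_combination h0

theorem mem_tSU_iff_alpha {g : SU3} : g ∈ tSU f.x ↔ g ∈ qSU f.x ∧ f.alpha g = 0 := by
  constructor
  · intro hg
    refine ⟨tSU_le_qSU hF hσ f.isotX hg, ?_⟩
    rw [Fr.alpha, (hg f.e).2 f.hex, f.hey]
  · rintro ⟨hg, ha⟩
    refine (CfsgLib.PSUAut.mem_tSU_iff hF hσ f.isotX g).2 ⟨f.beta g, ?_, fun w => ?_⟩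
    · have := f.beta_relation hF hσ hg
      rwa [ha, zero_mul, zero_div, add_zero] at this
    obtain ⟨a, b, c, rfl⟩ := f.span w
    simp only [act_add, act_smul, hg.1, f.act_e hF hσ hg, f.act_y hF hσ hg, ha, map_zero, neg_zero,
      zero_div, zero_smul, add_zero, zero_add, hadd_left hF hσ, hsmul_left hF hσ, f.hx, f.hex, f.hyx]
    module

theorem conj_mem {k g : SU3} (hk : k ∈ f.B) (hg : g ∈ qSU f.x) : k * g * k⁻¹ ∈ qSU f.x := by
  rw [f.mem_qSU_iff hF hσ]
  have h1 := f.lam_spec hF hσ hk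
  have h2 : act k⁻¹ f.x = (f.lam k)⁻¹ • f.x := by
    have := congrArg (fun w => (f.lam k)⁻¹ • act k⁻¹ w) h1
    simp only [act_inv_apply, act_smul, smul_smul, inv_mul_cancel₀ (f.lam_ne_zero hF hσ hk), one_smul] at this
    exact this.symm
  rw [act_mul, act_mul, h2, act_smul, act_smul, hg.1, h1, smul_smul,
    inv_mul_cancel₀ (f.lam_ne_zero hF hσ hk), one_smul]

end Fr

end CfsgLib.U3MinIndex
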