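import Cfsg.Agent.Lib.U3MinIndex.Basic
import Cfsg.Agent.Lib.Classical.UnitaryPSU

/-!
# Orders attached to the unital
-/

set_option autoImplicit false
set_option linter.unusedSectionVars false

namespace CfsgLib.U3MinIndex

open Matrix CfsgLib.PSUAut CfsgLib.QdFreeU3

variable {F : Type*} [Field F] {q : ℕ}

local notation "V3" => Fin 3 → F
local notation "h3" => Cfsg.hermForm 3 F q
local notation "SU3" => (Cfsg.SU 3 F q)

variable [Fintype F] (hF : Fintype.card F = q ^ 2) {σ : F ≃+* F} (hσ : ∀ a, σ a = a ^ q)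

include hF hσ

theorem card_skew_fixed :
    Nat.card {c : F // c + σ c = 0} = q ∧ Nat.card {c : F // σ c = c} = q := by
  classical
  have hq := CfsgLib.Classical.two_le_q hF
  have hle : ∀ s : F, Nat.card {c : F // s * c + c ^ q = 0} ≤ q := by
    intro s
    let Q : Polynomial F := Polynomial.X ^ q + Polynomial.C s * Polynomial.X
    have hdeg : Q.natDegree = q := by
      rw [Polynomial.natDegree_add_eq_left_of_natDegree_lt] <;> rw [Polynomial.natDegree_X_pow]
      exact lt_of_le_of_lt (Polynomial.natDegree_C_mul_le _ _) (by rw [Polynomial.natDegree_X]; omega)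
    have hQ : Q ≠ 0 := fun h0 => by rw [h0, Polynomial.natDegree_zero] at hdeg; omega
    rw [Nat.card_eq_fintype_card, Fintype.card_subtype]
    refine le_trans ?_ hdeg.le
    refine Polynomial.card_le_degree_of_subset_roots fun c hc => ?_
    rw [Polynomial.mem_roots hQ]
    simp only [Finset.mem_val, Finset.mem_filter, Finset.mem_univ, true_and] at hc
    simp only [Polynomial.IsRoot.def, Q, Polynomial.eval_add, Polynomial.eval_pow, Polynomial.eval_X,
      Polynomial.eval_mul, Polynomial.eval_C]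
    linear_combination hc
  let τ : F →+ F := AddMonoidHom.id F + σ.toAddMonoidHom
  have hmul : Nat.card τ.ker * Nat.card τ.range = q ^ 2 := by
    rw [← hF, ← Nat.card_eq_fintype_card, ← AddSubgroup.index_ker, AddSubgroup.card_mul_index]
  have hk : Nat.card τ.ker = Nat.card {c : F // c + σ c = 0} :=
    Nat.card_congr (Equiv.subtypeEquivRight fun c => Iff.rfl)
  have h1 : Nat.card {c : F // c + σ c = 0} ≤ q := by
    refine le_trans (le_of_eq (Nat.card_congr (Equiv.subtypeEquivRight fun c => ?_))) (hle 1)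
    rw [hσ, one_mul]
  have h2 : Nat.card {c : F // σ c = c} ≤ q := by
    refine le_trans (le_of_eq (Nat.card_congr (Equiv.subtypeEquivRight fun c => ?_))) (hle (-1))
    rw [hσ, neg_one_mul, ← sub_eq_neg_add, sub_eq_zero]
  have htr : Nat.card τ.range ≤ Nat.card {c : F // σ c = c} := by
    refine Nat.card_le_card_of_injective (fun r : τ.range => (⟨r.1, ?_⟩ : {c : F // σ c = c})) fun a b e =>
      Subtype.ext (congrArg (fun x : {c : F // σ c = c} => x.1) e)
    obtain ⟨c, hc⟩ := AddMonoidHom.mem_range.1 r.2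
    rw [← hc]
    show σ (c + σ c) = c + σ c
    rw [map_add, CfsgLib.UnitarySpec.sigma_sigma hF hσ, add_comm]
  rw [hk] at hmul
  constructor <;> nlinarith [Nat.zero_le (Nat.card τ.range)]

theorem card_units_sub : Nat.card Fˣ = q ^ 2 - 1 := by
  rw [Nat.card_units, Nat.card_eq_fintype_card, hF]

namespace Fr

variable (f : Fr F q)

theorem exists_tSU_beta {c : F} (hc : c + σ c = 0) : ∃ t ∈ tSU f.x, f.beta t = c := by
  obtain ⟨t, ht⟩ := exists_tSU hF hσ f.isotX hc
  refine ⟨t, (CfsgLib.PSUAut.mem_tSU_iff hF hσ f.isotX t).2 ⟨c, hc, ht⟩, ?_⟩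
  rw [Fr.beta, ht, hadd_left hF hσ, hsmul_left hF hσ, f.hy, f.hyx, f.hxy]
  ring

theorem card_tSU : Nat.card (tSU f.x : Subgroup SU3) = q := by
  refine (Nat.card_congr (Equiv.ofBijective (fun t : (tSU f.x : Subgroup SU3) =>
    (⟨f.beta t.1, ?_⟩ : {c : F // c + σ c = 0})) ⟨?_, ?_⟩)).trans (card_skew_fixed hF hσ).1
  · obtain ⟨h1, h2⟩ := (f.mem_tSU_iff_alpha hF hσ).1 t.2
    have := f.beta_relation hF hσ h1
    rwa [h2, zero_mul, zero_div, add_zero] at this
  · intro a b e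
    obtain ⟨h1, h2⟩ := (f.mem_tSU_iff_alpha hF hσ).1 a.2
    obtain ⟨h1', h2'⟩ := (f.mem_tSU_iff_alpha hF hσ).1 b.2
    exact Subtype.ext (f.eq_of_coords hF hσ h1 h1' (h2.trans h2'.symm) (congrArg Subtype.val e))
  · rintro ⟨c, hc⟩
    obtain ⟨t, ht, htc⟩ := f.exists_tSU_beta hF hσ hc
    exact ⟨⟨t, ht⟩, Subtype.ext htc⟩

theorem alpha_surj (a : F) : ∃ g ∈ qSU f.x, f.alpha g = a := by
  set ε := h3 f.e f.e with hε
  set w : V3 := (-(σ a) / ε) • f.e with hw
  obtain ⟨g, hg, t, hgt⟩ := exists_eichler hF hσ (by omega) f.isotX (w := w)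
    (by rw [hw, hsmul_left hF hσ, f.hex, mul_zero])
  refine ⟨g, hg, ?_⟩
  rw [Fr.alpha, hgt]
  simp only [hadd_left hF hσ, hsub_left hF hσ, hsmul_left hF hσ, f.hex, f.hey, f.hxy, hw,
    hsmul_right hF hσ, map_div₀, map_neg, CfsgLib.UnitarySpec.sigma_sigma hF hσ, ← hε]
  have hε' : σ ε = ε := f.hee_fixed hF hσ
  have : ε ≠ 0 := f.hee
  rw [hε']
  field_simp
  ring

theorem card_qSU : Nat.card (qSU f.x : Subgroup SU3) = q ^ 3 := by
  let φ : (qSU f.x : Subgroup SU3) →* Multiplicative F :=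
    { toFun := fun g => Multiplicative.ofAdd (f.alpha g.1)
      map_one' := congrArg Multiplicative.ofAdd (f.alpha_one hF hσ)
      map_mul' := fun g g' => congrArg Multiplicative.ofAdd (f.alpha_mul hF hσ g.2 g'.2) }
  have hs : Function.Surjective φ := fun a => by
    obtain ⟨g, hg, hga⟩ := f.alpha_surj hF hσ a.toAdd
    exact ⟨⟨g, hg⟩, congrArg Multiplicative.ofAdd hga⟩
  have hk : Nat.card φ.ker = q := by
    refine (Nat.card_congr ?_).trans (f.card_tSU hF hσ)
    exact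
      { toFun := fun g => ⟨g.1.1, (f.mem_tSU_iff_alpha hF hσ).2
          ⟨g.1.2, congrArg Multiplicative.toAdd (MonoidHom.mem_ker.1 g.2)⟩⟩
        invFun := fun t => ⟨⟨t.1, ((f.mem_tSU_iff_alpha hF hσ).1 t.2).1⟩,
          MonoidHom.mem_ker.2 (congrArg Multiplicative.ofAdd ((f.mem_tSU_iff_alpha hF hσ).1 t.2).2)⟩
        left_inv := fun g => rfl
        right_inv := fun t => rfl }
  rw [← Subgroup.card_mul_index φ.ker, Subgroup.index_ker, MonoidHom.range_eq_top.2 hs,
    Subgroup.card_top, hk, Nat.card_eq_fintype_card, Fintype.card_multiplicative, hF]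
  ring

theorem exists_qSU_move (R : Pt F q) (hR : R ≠ f.P) : ∃ g ∈ (qSU f.x : Subgroup SU3), g • f.R = R := by
  obtain ⟨z, hz, rfl⟩ := exists_pt R
  have hzx : h3 z f.x ≠ 0 := fun h => hR ((pt_eq_iff f.isotX hz).2 (iso_perp hF hσ f.isotX hz h)).symm
  set z' := (h3 z f.x)⁻¹ • z with hz'
  have h1 : h3 z' f.x = 1 := by rw [hz', hsmul_left hF hσ, inv_mul_cancel₀ hzx]
  have h2 : h3 z' z' = 0 := by rw [hz', hsmul_left hF hσ, hsmul_right hF hσ, hz.2, mul_zero, mul_zero]
  have hd := decomp hF hσ f z'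
  rw [h1, one_smul] at hd
  set A := h3 z' f.y with hA
  set W := h3 z' f.e / h3 f.e f.e with hW
  obtain ⟨g, hg, hga⟩ := f.alpha_surj hF hσ (-σ (W * h3 f.e f.e))
  have hy := f.act_y hF hσ hg
  rw [hga] at hy
  simp only [map_neg, CfsgLib.UnitarySpec.sigma_sigma hF hσ, neg_neg, mul_div_cancel_right₀ _ f.hee] at hy
  have hrel := f.beta_relation hF hσ hg
  have hzz := h2
  rw [hd] at hzz
  simp only [hadd_left hF hσ, hadd_right hF hσ, hsmul_left hF hσ, hsmul_right hF hσ, f.hx, f.hy, f.hxy,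
    f.hyx, f.hex, f.hey, f.hxe, f.hye] at hzz
  have hc : (A - f.beta g) + σ (A - f.beta g) = 0 := by
    rw [hga] at hrel
    simp only [map_neg, map_mul, CfsgLib.UnitarySpec.sigma_sigma hF hσ, f.hee_fixed hF hσ] at hrel
    rw [map_sub]
    have := f.hee
    field_simp at hrel
    linear_combination hzz - hrel
  obtain ⟨t, ht, htc⟩ := exists_tSU_beta hF hσ f hc
  refine ⟨t * g, mul_mem (tSU_le_qSU hF hσ f.isotX ht) hg, ?_⟩
  rw [Fr.R, pt_smul, pt_eq_iff]
  refine ⟨h3 z f.x, ?_⟩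
  have hta := ((f.mem_tSU_iff_alpha hF hσ).1 ht).2
  have hte := (ht f.e).2 f.hex
  have htx := (tSU_le_qSU hF hσ f.isotX ht).1
  have hty := f.act_y hF hσ (tSU_le_qSU hF hσ f.isotX ht)
  rw [hta, map_zero, neg_zero, zero_div, zero_smul, add_zero, htc] at hty
  rw [act_mul, hy, act_add, act_add, act_smul, act_smul, htx, hte, hty]
  have : z = h3 z f.x • z' := by rw [hz', smul_smul, mul_inv_cancel₀ hzx, one_smul]
  conv_lhs => rw [this, hd]
  congr 1
  module

theorem qSU_semiregular {g : SU3} (hg : g ∈ qSU f.x) {R : Pt F q} (hR : R ≠ f.P) (hgR : g • R = R) :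
    g = 1 := by
  by_contra hg1
  obtain ⟨z, hz, rfl⟩ := exists_pt R
  obtain ⟨a, ha⟩ := smul_pt_eq_self.1 hgR
  have hzx : h3 z f.x ≠ 0 := fun h => hR ((pt_eq_iff f.isotX hz).2 (iso_perp hF hσ f.isotX hz h)).symm
  have ha1 : a = 1 := by
    have h := f.form_x hF hσ z hg
    rw [ha, hsmul_left hF hσ] at h
    exact (mul_eq_right₀ hzx).1 h
  rw [ha1, one_smul] at ha
  exact hR ((pt_eq_iff f.isotX hz).2 (fix_unique hF hσ f.isotX hz hg1 hg.1 ha)).symm

theorem P_ne_R : f.R ≠ f.P := by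
  intro h
  obtain ⟨a, ha⟩ := (pt_eq_iff _ _).1 h
  have h1 := f.hxy
  rw [ha, hsmul_left hF hσ, f.hy, mul_zero] at h1
  exact zero_ne_one h1

theorem card_others : Nat.card {R : Pt F q // R ≠ f.P} = q ^ 3 := by
  rw [← f.card_qSU hF hσ]
  refine (Nat.card_congr (Equiv.ofBijective (fun g : (qSU f.x : Subgroup SU3) =>
    (⟨g.1 • f.R, ?_⟩ : {R : Pt F q // R ≠ f.P})) ⟨?_, ?_⟩)).symm
  · intro h
    refine P_ne_R hF hσ f (MulAction.injective g.1 (h.trans ?_))
    exact (f.qSU_le_B hF hσ g.2).symm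
  · intro a b e
    have e' : (a.1⁻¹ * b.1) • f.R = f.R := by
      have e0 : a.1 • f.R = b.1 • f.R := congrArg Subtype.val e
      rw [mul_smul, ← e0, inv_smul_smul]
    exact Subtype.ext (inv_mul_eq_one.1 (f.qSU_semiregular hF hσ
      (mul_mem (inv_mem a.2) b.2) (P_ne_R hF hσ f) e'))
  · rintro ⟨R, hR⟩
    obtain ⟨g, hg, hgR⟩ := f.exists_qSU_move hF hσ R hR
    exact ⟨⟨g, hg⟩, Subtype.ext hgR⟩

end Fr

theorem finite_pt : Finite (Pt F q) := by
  haveI : Finite (Projectivization F V3) := inferInstance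
  exact Subtype.finite

theorem nonempty_pt : Nonempty (Pt F q) := by
  obtain ⟨y, -, hy, -⟩ := exists_iso_test_in hF hσ (⊤ : Submodule F V3)
    (fun u _ hu => by
      obtain ⟨y, hy⟩ := exists_partner hF hσ hu
      exact ⟨y, trivial, by rw [hy]; exact one_ne_zero⟩)
    (fun m _ => by
      obtain ⟨e, he0, he⟩ := exists_perp hF hσ ![m] (by omega)
      exact ⟨e, trivial, he0, he 0⟩) (m := (Pi.single 0 1 : V3)) trivial (by simp)
  exact ⟨pt y hy⟩

theorem card_pt : Nat.card (Pt F q) = q ^ 3 + 1 := by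
  classical
  haveI := finite_pt hF hσ
  obtain ⟨P⟩ := nonempty_pt hF hσ
  obtain ⟨f, hf⟩ := exists_fr_pt hF hσ P
  rw [← f.card_others hF hσ]
  haveI := Fintype.ofFinite (Pt F q)
  rw [Nat.card_eq_fintype_card, Nat.card_eq_fintype_card, Fintype.card_subtype_compl,
    Fintype.card_subtype_eq]
  have : 0 < Fintype.card (Pt F q) := Fintype.card_pos_iff.2 ⟨f.P⟩
  omega

theorem exists_smul_eq (P R : Pt F q) : ∃ g : SU3, g • P = R := by
  haveI := finite_pt hF hσ
  obtain ⟨Z, hZP, hZR⟩ : ∃ Z : Pt F q, Z ≠ P ∧ Z ≠ R := by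
    by_contra hcon
    push Not at hcon
    have hle : Nat.card (Pt F q) ≤ 2 := by
      refine (Nat.card_le_card_of_surjective (fun b : Bool => if b then P else R) fun Z => ?_).trans
        (by simp)
      by_cases h : Z = P
      · exact ⟨true, by simp [h]⟩
      · exact ⟨false, by simp [hcon Z h]⟩
    rw [card_pt hF hσ] at hle
    have := Nat.pow_le_pow_left (CfsgLib.Classical.two_le_q hF) 3
    omega
  obtain ⟨f, hf⟩ := exists_fr_pt hF hσ Z
  obtain ⟨g, -, hg⟩ := f.exists_qSU_move hF hσ P (hf ▸ hZP.symm)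
  obtain ⟨g', -, hg'⟩ := f.exists_qSU_move hF hσ R (hf ▸ hZR.symm)
  exact ⟨g' * g⁻¹, by rw [mul_smul, ← hg, inv_smul_smul, hg']⟩

theorem card_su_three : Nat.card SU3 = q ^ 3 * ((q ^ 2 - 1) * (q ^ 3 + 1)) := by
  have h := CfsgLib.Classical.card_su (n := 3) hF (by omega)
  have hu : CfsgLib.Classical.unitaryOrder q 3 = q ^ 3 * ((q + 1) * (q ^ 2 - 1) * (q ^ 3 + 1)) := by
    simp [CfsgLib.Classical.unitaryOrder, Finset.prod_range_succ]
  rw [hu] at h
  refine Nat.eq_of_mul_eq_mul_left (Nat.succ_pos q) ?_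
  rw [Nat.succ_eq_add_one, h]
  ring

end CfsgLib.U3MinIndex
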