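import Cfsg.Agent.Lib.U3MinIndex.Line

/-!
# Homologies of the unital, fixed points
-/

set_option autoImplicit false
set_option linter.unusedSectionVars false

namespace CfsgLib.U3MinIndex

open Matrix CfsgLib.PSUAut CfsgLib.QdFreeU3

variable {F : Type*} [Field F] {q : ℕ}

local notation "V3" => Fin 3 → F
local notation "h3" => Cfsg.hermForm 3 F q
local notation "SU3" => (Cfsg.SU 3 F q)

variable [Fintype F] (hF : Fintype.card F = q ^ 2) {σ : F ≃+* F} (hσ : ∀ a, σ a = a ^ q)

include hF hσ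

theorem mk_fr {x e y : V3} (hx : h3 x x = 0) (hy : h3 y y = 0) (hyx : h3 y x = 1) (hex : h3 e x = 0)
    (hey : h3 e y = 0) (hee : h3 e e ≠ 0) (x0 : x ≠ 0) :
    ∃ f : Fr F q, f.x = x ∧ f.e = e ∧ f.y = y := by
  have hxy : h3 x y = 1 := by rw [hconj hF hσ y x, hyx, map_one]
  have hxe : h3 x e = 0 := (hcomm hF hσ _ _).1 hex
  have hye : h3 y e = 0 := (hcomm hF hσ _ _).1 hey
  have hli : LinearIndependent F ![x, e, y] := by
    rw [Fintype.linearIndependent_iff]
    intro g hg
    rw [Fin.sum_univ_three] at hg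
    have ha := congrArg (fun w => h3 w y) hg
    have hb := congrArg (fun w => h3 w e) hg
    have hc := congrArg (fun w => h3 w x) hg
    simp [hadd_left hF hσ, hsmul_left hF hσ, hzero_left hF hσ, hx, hy, hyx, hxy, hex, hey, hxe, hye, hee]
      at ha hb hc
    intro i
    fin_cases i
    · exact ha
    · exact hb
    · exact hc
  refine ⟨⟨x, e, y, hx, hy, hyx, hxy, hex, hey, hxe, hye, hee, x0, fun h0 => by
    rw [h0, hzero_left hF hσ] at hyx; exact zero_ne_one hyx, fun w => ?_, hli⟩, rfl, rfl, rfl⟩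
  have hsp : w ∈ Submodule.span F (Set.range ![x, e, y]) := by
    rw [hli.span_eq_top_of_card_eq_finrank' (by simp)]; exact Submodule.mem_top
  obtain ⟨g, hg⟩ := (Submodule.mem_span_range_iff_exists_fun F).1 hsp
  refine ⟨g 0, g 1, g 2, ?_⟩
  rw [← hg, Fin.sum_univ_three]
  rfl

section Char

variable {p : ℕ} [hp : Fact p.Prime] [CharP F p]

/-- A homology in the stabiliser of a point has a frame in which it is diagonal. -/
theorem exists_line (f : Fr F q) {k : SU3} (hk : k ∈ f.B) (h1 : f.lam k * σ (f.lam k) = 1)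
    (hlam3 : f.lam k ^ 3 ≠ 1) {n : ℕ} (hn : k ^ n = 1) (hpn : ¬ p ∣ n) :
    ∃ f' : Fr F q, f'.P = f.P ∧ k ∈ f'.B ∧ f'.lam k = f.lam k ∧ k ∈ f'.SE ∧
      (∀ z, h3 z f'.e = 0 → act k z = f.lam k • z) ∧ ∀ g, Commute g k ↔ g ∈ f'.SE := by
  set l := f.lam k with hl
  have hl0 := f.lam_ne_zero hF hσ hk
  obtain ⟨r, m, he, hm⟩ := f.act_e_B hF hσ hk
  have hml : m ≠ l := by
    intro h
    rw [h] at hm
    exact hlam3 (by rw [← h1, ← hm]; ring)
  have hml' : m - l ≠ 0 := sub_ne_zero.2 hml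
  set e' := f.e + (r / (m - l)) • f.x with he'
  have he'eig : act k e' = m • e' := by
    rw [he', act_add, act_smul, he, f.lam_spec hF hσ hk, smul_add, smul_smul, smul_smul,
      add_comm (r • f.x), add_assoc, ← add_smul, ← hl]
    congr 2
    field_simp
    ring
  have hex : h3 e' f.x = 0 := by
    rw [he', hadd_left hF hσ, hsmul_left hF hσ, f.hex, f.hx, mul_zero, add_zero]
  have hee : h3 e' e' = h3 f.e f.e := by
    rw [he', hadd_left hF hσ, hadd_right hF hσ, hadd_right hF hσ, hsmul_left hF hσ, hsmul_left hF hσ,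
      hsmul_right hF hσ, hsmul_right hF hσ, f.hex, f.hxe, f.hx]
    ring
  have hee0 : h3 e' e' ≠ 0 := hee ▸ f.hee
  have hxe : h3 f.x e' = 0 := (hcomm hF hσ _ _).1 hex
  set y1 := f.y - (h3 f.y e' / h3 e' e') • e' with hy1
  have hy1e : h3 y1 e' = 0 := by
    rw [hy1, hsub_left hF hσ, hsmul_left hF hσ, div_mul_cancel₀ _ hee0, sub_self]
  have hy1x : h3 y1 f.x = 1 := by
    rw [hy1, hsub_left hF hσ, hsmul_left hF hσ, hex, f.hyx, mul_zero, sub_zero]
  obtain ⟨a, ha1, ha2, -⟩ := exists_iso_shift hF hσ f.hx hy1x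
  have hy'e : h3 (y1 + a • f.x) e' = 0 := by
    rw [hadd_left hF hσ, hsmul_left hF hσ, hy1e, hxe, mul_zero, add_zero]
  obtain ⟨f', hf'x, hf'e, hf'y⟩ := mk_fr hF hσ f.hx ha1 ha2 hex ((hcomm hF hσ _ _).1 hy'e) hee0 f.x0
  have hP : f'.P = f.P := (pt_eq_iff _ _).2 ⟨1, by rw [one_smul, hf'x]⟩
  have hkB : k ∈ f'.B := f'.mem_B.2 ⟨l, by rw [hf'x]; exact f.lam_spec hF hσ hk⟩
  have hlam : f'.lam k = l := f'.lam_eq hF hσ (by rw [hf'x]; exact f.lam_spec hF hσ hk)
  have hkSE : k ∈ f'.SE := ⟨m, by rw [hf'e]; exact he'eig⟩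
  have hkx : act k f'.x = l • f'.x := by rw [hf'x]; exact f.lam_spec hF hσ hk
  -- the other point
  have hyperp := f'.SE_perp hF hσ hkSE f'.hye
  have hyd := f'.perp_decomp hF hσ hyperp
  have hny : h3 (act k f'.y) f'.x = l := by
    have h0 := act_form k f'.y f'.x
    rw [hkx, hsmul_right hF hσ, f'.hyx] at h0
    have hσl : σ l ≠ 0 := (map_ne_zero_iff σ σ.injective).2 hl0
    refine mul_left_cancel₀ hσl ?_
    rw [h0, ← h1]
    ring
  set b := h3 (act k f'.y) f'.y with hb
  rw [hny] at hyd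
  have hpow : ∀ i : ℕ, act (k ^ i) f'.y = ((i : F) * l ^ i / l * b) • f'.x + l ^ i • f'.y := by
    intro i
    induction i with
    | zero => simp [act_one]
    | succ i ih =>
      rw [pow_succ', act_mul, ih, act_add, act_smul, act_smul, hyd, hkx, smul_add, smul_smul, smul_smul,
        smul_smul, ← add_assoc, ← add_smul]
      congr 2
      · push_cast
        have hl0' : l ≠ 0 := hl0
        field_simp
        ring
      · rw [pow_succ]
  have hn1 := hpow n
  rw [hn, act_one] at hn1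
  have hb0 : b = 0 := by
    have h0 := congrArg (fun w => h3 w f'.y) hn1
    simp only [hadd_left hF hσ, hsmul_left hF hσ, f'.hy, f'.hxy, mul_one, mul_zero, add_zero] at h0
    have hnF : (n : F) ≠ 0 := fun h => hpn ((CharP.cast_eq_zero_iff F p n).1 h)
    exact (mul_eq_zero.1 h0.symm).resolve_left (div_ne_zero (mul_ne_zero hnF (pow_ne_zero _ hl0)) hl0)
  rw [hb0, zero_smul, zero_add] at hyd
  have hline : ∀ z, h3 z f'.e = 0 → act k z = l • z := by
    intro z hz
    conv_lhs => rw [f'.perp_decomp hF hσ hz, act_add, act_smul, act_smul, hkx, hyd]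
    conv_rhs => rw [f'.perp_decomp hF hσ hz]
    module
  have hke : act k f'.e = m • f'.e := by rw [hf'e]; exact he'eig
  refine ⟨f', hP, hkB, hlam, hkSE, hline, fun g => ⟨fun hgk => ?_, fun hg => ?_⟩⟩
  · set w := act g f'.e with hw
    have hkw : act k w = m • w := by rw [hw, ← act_mul, ← hgk.eq, act_mul, hke, act_smul]
    have hd := Fr.decomp hF hσ f' w
    set A := h3 w f'.y
    set B := h3 w f'.e / h3 f'.e f'.e
    set C := h3 w f'.x
    rw [hd, act_add, act_add, act_smul, act_smul, act_smul, hkx, hke, hyd] at hkw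
    have hA := congrArg (fun u => h3 u f'.y) hkw
    have hC := congrArg (fun u => h3 u f'.x) hkw
    simp only [hadd_left hF hσ, hsmul_left hF hσ, f'.hx, f'.hy, f'.hxy, f'.hyx, f'.hex, f'.hey, mul_zero,
      mul_one, add_zero, zero_add] at hA hC
    have hA0 : A = 0 := by
      have : (m - l) * A = 0 := by linear_combination -hA
      exact (mul_eq_zero.1 this).resolve_left hml'
    have hC0 : C = 0 := by
      have : (m - l) * C = 0 := by linear_combination -hC
      exact (mul_eq_zero.1 this).resolve_left hml'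
    refine ⟨B, ?_⟩
    rw [← hw, hd, hA0, hC0, zero_smul, zero_smul, zero_add, add_zero]
  · obtain ⟨c, hc⟩ := id hg
    refine act_ext fun z => ?_
    obtain ⟨a, b', c', rfl⟩ := f'.span z
    simp only [act_mul, act_add, act_smul, hkx, hke, hyd, hc,
      hline _ (f'.SE_perp hF hσ hg f'.hxe), hline _ (f'.SE_perp hF hσ hg f'.hye)]
    module

/-- Elements of large prime order fix no point. -/
theorem no_fixed {r : SU3} {l : ℕ} (hl : l.Prime) (hr : orderOf r = l) (h1 : ¬ l ∣ q ^ 2 - 1) (h2 : l ≠ p)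
    (R : Pt F q) : r • R ≠ R := by
  intro h
  obtain ⟨f, rfl⟩ := exists_fr_pt hF hσ R
  have hrl : r ^ l = 1 := hr ▸ pow_orderOf_eq_one r
  set u := f.lamHom hF hσ ⟨r, h⟩
  have hu : u ^ l = 1 := by
    rw [← map_pow, show (⟨r, h⟩ : f.B) ^ l = 1 from Subtype.ext hrl, map_one]
  have hu1 : u = 1 := by
    have hd := orderOf_dvd_natCard u
    rw [card_units_sub hF hσ] at hd
    rcases (Nat.dvd_prime hl).1 (orderOf_dvd_of_pow_eq_one hu) with h0 | h0
    · exact orderOf_eq_one_iff.1 h0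
    · exact absurd (h0 ▸ hd) h1
  obtain ⟨i, hi⟩ := f.isPGroup_qSU' hF hσ (p := p) ⟨r, (f.ker_lamHom hF hσ).1 hu1⟩
  have hd := orderOf_dvd_of_pow_eq_one (x := r) (by simpa using congrArg Subtype.val hi)
  rw [hr] at hd
  exact h2 ((Nat.prime_dvd_prime_iff_eq hl hp.out).1 (hl.dvd_of_dvd_pow hd))

/-- Elements of large prime order preserve no line. -/
theorem notMem_SE {r : SU3} {l : ℕ} (hl : l.Prime) (hr : orderOf r = l) (h1 : ¬ l ∣ q ^ 2 - 1) (h2 : l ≠ p)
    (h3' : ¬ l ∣ q + 1) (f : Fr F q) : r ∉ f.SE := by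
  intro h
  haveI := finite_pt hF hσ
  haveI : Fact l.Prime := ⟨hl⟩
  let S : Subgroup f.SE := Subgroup.zpowers ⟨r, h⟩
  letI : MulAction f.SE {R : Pt F q // f.OnLine R} :=
    { smul := fun g R => ⟨g.1 • R.1, f.SE_smul hF hσ g.2 R.2⟩
      one_smul := fun R => Subtype.ext (one_smul _ _)
      mul_smul := fun a b R => Subtype.ext (mul_smul _ _ _) }
  have hS : IsPGroup l S := IsPGroup.of_card (n := 1) (by
    rw [Nat.card_zpowers, ← Subgroup.orderOf_coe, hr, pow_one])
  have hmod := hS.card_modEq_card_fixedPoints {R : Pt F q // f.OnLine R}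
  rw [f.card_line hF hσ] at hmod
  have hempty : IsEmpty (MulAction.fixedPoints S {R : Pt F q // f.OnLine R}) :=
    ⟨fun R => no_fixed hF hσ hl hr h1 h2 R.1.1
      (congrArg Subtype.val (R.2 ⟨⟨r, h⟩, Subgroup.mem_zpowers _⟩))⟩
  rw [Nat.card_of_isEmpty] at hmod
  exact h3' (Nat.modEq_zero_iff_dvd.1 hmod)

/-- An involution fixes a point. -/
theorem invol_fixed (hp2 : p ≠ 2) {i : SU3} (hi : i * i = 1) : ∃ R : Pt F q, i • R = R := by
  have h2 : (2 : F) ≠ 0 := fun h => hp2 ((Nat.prime_dvd_prime_iff_eq hp.out Nat.prime_two).1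
    ((CharP.cast_eq_zero_iff F p 2).1 (by exact_mod_cast h)))
  obtain ⟨R⟩ := nonempty_pt hF hσ
  obtain ⟨z, hz, rfl⟩ := exists_pt R
  by_cases hfix : ∃ a : F, act i z = a • z
  · exact ⟨pt z hz, smul_pt_eq_self.2 hfix⟩
  have hii : ∀ w, act i (act i w) = w := fun w => by rw [← act_mul, hi, act_one]
  set z' := act i z with hz'
  have hz'iso : Isot q z' := Isot.act i hz
  have hne : pt z hz ≠ pt z' hz'iso := fun h => hfix ((pt_eq_iff _ _).1 h)
  obtain ⟨f, hfx, c0, hc0, hfy⟩ := exists_fr_pair hF hσ hz hz'iso hne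
  set c := h3 z z' with hc
  have hzz' : h3 z' z = c := by
    rw [← hii z, ← hz', act_form, hc]
  have hcne : c ≠ 0 := fun h => hfix (iso_perp hF hσ hz hz'iso (hzz'.trans h))
  have hez : h3 f.e z = 0 := by rw [← hfx]; exact f.hex
  have hez' : h3 f.e z' = 0 := by
    have h0 := f.hey
    rw [hfy, hsmul_right hF hσ] at h0
    exact (mul_eq_zero.1 h0).resolve_left ((map_ne_zero_iff σ σ.injective).2 hc0)
  set w := act i f.e with hw
  have hwz : h3 w z = 0 := by rw [hw, ← hii z, act_form, ← hz', hez']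
  have hwz' : h3 w z' = 0 := by rw [hw, hz', act_form, hez]
  obtain ⟨d, hd⟩ : ∃ d : F, w = d • f.e := by
    refine ⟨h3 w f.e / h3 f.e f.e, ?_⟩
    have h0 := Fr.decomp hF hσ f w
    rwa [show h3 w f.x = 0 by rw [hfx]; exact hwz, show h3 w f.y = 0 by
      rw [hfy, hsmul_right hF hσ, hwz', mul_zero], zero_smul, zero_smul, zero_add, add_zero] at h0
  have hd2 : d * d = 1 := by
    have h0 := hii f.e
    rw [← hw, hd, act_smul, ← hw, hd, smul_smul] at h0
    have : (d * d - 1) • f.e = 0 := by rw [sub_smul, one_smul, h0, sub_self]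
    refine sub_eq_zero.1 ((smul_eq_zero.1 this).resolve_right fun he => f.hee ?_)
    rw [he, hzero_left hF hσ]
  have hdd : d = 1 ∨ d = -1 := mul_self_eq_one_iff.1 hd2
  have hσd : σ d = d := by rcases hdd with h | h <;> rw [h] <;> simp
  -- an eigenvector in the plane with eigenvalue `d`
  set u := z + d • z' with hu
  have hiu : act i u = d • u := by
    rw [hu, act_add, act_smul, hii, ← hz', smul_add, smul_smul, hd2, one_smul, add_comm]
  have hcσ : σ c = c := by rw [hc, ← hconj hF hσ z z', hzz']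
  have huu : h3 u u = 2 * d * c := by
    rw [hu, hadd_left hF hσ, hadd_right hF hσ, hadd_right hF hσ, hsmul_left hF hσ, hsmul_left hF hσ,
      hsmul_right hF hσ, hsmul_right hF hσ, hz.2, hz'iso.2, hzz', ← hc, hσd]
    ring
  have heu : h3 f.e u = 0 := by
    rw [hu, hadd_right hF hσ, hsmul_right hF hσ, hez, hez', mul_zero, add_zero]
  have hue : h3 u f.e = 0 := (hcomm hF hσ _ _).1 heu
  obtain ⟨γ, hγ⟩ := CfsgLib.Transvec.Unitary.exists_norm_eq (CfsgLib.UnitarySpec.sigma_ne hF hσ)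
    (CfsgLib.UnitarySpec.sigma_sigma hF hσ) (b := -(2 * d * c / h3 f.e f.e))
    (by rw [map_neg, map_div₀, map_mul, map_mul, map_ofNat, hσd, hcσ, f.hee_fixed hF hσ])
  have hd0 : d ≠ 0 := fun h => by rw [h, mul_zero] at hd2; exact zero_ne_one hd2
  have hiso : Isot q (u + γ • f.e) := by
    refine ⟨fun h => ?_, ?_⟩
    · have h0 := congrArg (fun v => h3 v u) h
      simp only [hadd_left hF hσ, hsmul_left hF hσ, hzero_left hF hσ, heu, huu, mul_zero, add_zero] at h0
      exact mul_ne_zero (mul_ne_zero h2 hd0) hcne h0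
    · have hexp : ∀ v : V3, h3 v f.e = 0 → h3 f.e v = 0 →
          h3 (v + γ • f.e) (v + γ • f.e) = h3 v v + γ * σ γ * h3 f.e f.e := fun v e1 e2 => by
        simp only [hadd_left hF hσ, hadd_right hF hσ, hsmul_left hF hσ, hsmul_right hF hσ, e1, e2]
        ring
      rw [hexp u hue heu, huu]
      have := f.hee
      field_simp at hγ
      linear_combination hγ
  refine ⟨pt _ hiso, smul_pt_eq_self.2 ⟨d, ?_⟩⟩
  rw [act_add, act_smul, hiu, ← hw, hd]
  module

end Char

end CfsgLib.U3MinIndex
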