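import Cfsg.Agent.Lib.U3MinIndex.Unip
import Cfsg.Agent.Lib.Classical.Dickson.PGLClassify

/-!
# The group induced on a hyperbolic line
-/

set_option autoImplicit false
set_option linter.unusedSectionVars false

namespace CfsgLib.U3MinIndex

open Matrix CfsgLib.PSUAut CfsgLib.QdFreeU3 CfsgLib.Classical.Dickson
open scoped LinearAlgebra.Projectivization

variable {F : Type*} [Field F] {q : ℕ}

local notation "V3" => Fin 3 → F
local notation "h3" => Cfsg.hermForm 3 F q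
local notation "SU3" => (Cfsg.SU 3 F q)

theorem small_arith {p q m a b N : ℕ} (hp : p.Prime) (h5 : q ≠ 5) (hq : 3 ≤ q) (hqa : q = p ^ a)
    (hb : m = p ^ b) (hb0 : 0 < b) (hdvd : (q + 1) * m ∣ N) (hmod : q + 1 ≡ 1 [MOD p])
    (hN : N = 12 ∨ N = 24 ∨ N = 60) : m = q ∨ (p = 2 ∧ m = 2) ∨ (q = 9 ∧ m = 3) := by
  have hNpos : 0 < N := by omega
  have hN60 : N ≤ 60 := by omega
  have hle := Nat.le_of_dvd hNpos hdvd
  have hpm : p ∣ m := hb ▸ dvd_pow_self p hb0.ne'
  have hm0 : 0 < m := hb ▸ pow_pos hp.pos b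
  have hp2 := hp.two_le
  have hpm' := Nat.le_of_dvd hm0 hpm
  have hm2 : 2 ≤ m := hp2.trans hpm'
  have hq1 : (q + 1) ∣ N := dvd_trans (dvd_mul_right _ _) hdvd
  have hmN : m ∣ N := dvd_trans (dvd_mul_left _ _) hdvd
  have hm30 : m ≤ 20 := by
    have := Nat.mul_le_mul_right m (show 3 ≤ q + 1 by omega)
    omega
  have hq30 : q ≤ 29 := by
    have := Nat.mul_le_mul_left (q + 1) hm2
    omega
  have hpN : p ∣ 2 ^ 3 * (3 * 5) := (hpm.trans hmN).trans (by rcases hN with rfl | rfl | rfl <;> norm_num)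
  have hp5 : p ≤ 5 := by
    rcases hp.dvd_mul.1 hpN with h | h
    · have := Nat.le_of_dvd two_pos (hp.dvd_of_dvd_pow h); omega
    · rcases hp.dvd_mul.1 h with h | h
      · have := Nat.le_of_dvd (by norm_num) h; omega
      · exact Nat.le_of_dvd (by norm_num) h
  have ha4 : a ≤ 4 := by
    by_contra hc
    have h := Nat.pow_le_pow_left hp2 a
    have h' := Nat.pow_le_pow_right two_pos (show 5 ≤ a by omega)
    rw [← hqa] at h
    norm_num at h'
    omega
  have hb4 : b ≤ 4 := by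
    by_contra hc
    have h := Nat.pow_le_pow_left hp2 b
    have h' := Nat.pow_le_pow_right two_pos (show 5 ≤ b by omega)
    rw [← hb] at h
    norm_num at h'
    omega
  subst hqa hb
  rcases hN with rfl | rfl | rfl <;> interval_cases p <;> interval_cases a <;> interval_cases b <;>
    first
      | (exfalso; norm_num at hp; done)
      | (exfalso; norm_num at hdvd; done)
      | (exfalso; norm_num at hq; done)
      | (exfalso; norm_num at h5; done)
      | norm_num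

namespace Fr

variable (f : Fr F q)

/-- The stabiliser of the middle vector of a frame. -/
def SE : Subgroup SU3 where
  carrier := {g | ∃ a : F, act g f.e = a • f.e}
  one_mem' := ⟨1, by rw [act_one, one_smul]⟩
  mul_mem' := by
    rintro g g' ⟨a, ha⟩ ⟨a', ha'⟩
    exact ⟨a' * a, by rw [act_mul, ha', act_smul, ha, smul_smul]⟩
  inv_mem' := by
    rintro g ⟨a, ha⟩
    have he0 : f.e ≠ 0 := fun he => f.hee (by rw [he]; simp [Cfsg.hermForm])
    have ha0 : a ≠ 0 := fun h => act_ne_zero g he0 (by rw [ha, h, zero_smul])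
    refine ⟨a⁻¹, ?_⟩
    have := congrArg (fun w => a⁻¹ • act g⁻¹ w) ha
    simp only [act_inv_apply, act_smul, smul_smul, inv_mul_cancel₀ ha0, one_smul] at this
    exact this.symm

/-- The point lies on the line of a frame. -/
def OnLine (R : Pt F q) : Prop := h3 R.1.rep f.e = 0

end Fr

variable [Fintype F] (hF : Fintype.card F = q ^ 2) {σ : F ≃+* F} (hσ : ∀ a, σ a = a ^ q)

include hF hσ

namespace Fr

variable (f : Fr F q)

theorem onLine_pt {z : V3} (hz : Isot q z) : f.OnLine (pt z hz) ↔ h3 z f.e = 0 := by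
  obtain ⟨a, ha⟩ := Projectivization.exists_smul_eq_mk_rep F z hz.1
  show h3 (pt z hz).1.rep f.e = 0 ↔ _
  rw [show (pt z hz).1.rep = (a : F) • z from ha.symm, hsmul_left hF hσ, mul_eq_zero]
  exact ⟨fun h => h.resolve_left a.ne_zero, Or.inr⟩

theorem P_onLine : f.OnLine f.P := (f.onLine_pt hF hσ f.isotX).2 f.hxe

theorem R_onLine : f.OnLine f.R := (f.onLine_pt hF hσ f.isotY).2 f.hye

theorem SE_perp {g : SU3} (hg : g ∈ f.SE) {w : V3} (hw : h3 w f.e = 0) : h3 (act g w) f.e = 0 := by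
  obtain ⟨a, ha⟩ := hg
  have h0 := act_form g w f.e
  rw [ha, hsmul_right hF hσ, hw] at h0
  refine (mul_eq_zero.1 h0).resolve_left ((map_ne_zero_iff σ σ.injective).2 fun h => ?_)
  have he0 : f.e ≠ 0 := fun he => f.hee (by rw [he, hzero_left hF hσ])
  exact act_ne_zero g he0 (by rw [ha, h, zero_smul])

theorem SE_smul {g : SU3} (hg : g ∈ f.SE) {R : Pt F q} (hR : f.OnLine R) : f.OnLine (g • R) := by
  obtain ⟨z, hz, rfl⟩ := exists_pt R
  rw [pt_smul, f.onLine_pt hF hσ]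
  exact f.SE_perp hF hσ hg ((f.onLine_pt hF hσ hz).1 hR)

theorem perp_decomp {w : V3} (hw : h3 w f.e = 0) : w = h3 w f.y • f.x + h3 w f.x • f.y := by
  have := decomp hF hσ f w
  rwa [hw, zero_div, zero_smul, add_zero] at this

theorem qSU_SE_iff {g : SU3} (hg : g ∈ qSU f.x) : g ∈ f.SE ↔ g ∈ tSU f.x := by
  rw [f.mem_tSU_iff_alpha hF hσ]
  constructor
  · rintro ⟨a, ha⟩
    refine ⟨hg, ?_⟩
    rw [Fr.alpha, ha, hsmul_left hF hσ, f.hey, mul_zero]
  · rintro ⟨-, h⟩
    exact ⟨1, by rw [f.act_e hF hσ hg, h, zero_smul, zero_add, one_smul]⟩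

theorem card_line : Nat.card {R : Pt F q // f.OnLine R} = q + 1 := by
  classical
  haveI := finite_pt hF hσ
  haveI : Fintype {R : Pt F q // f.OnLine R} := Fintype.ofFinite _
  have h1 : Nat.card {R : {R : Pt F q // f.OnLine R} // R ≠ ⟨f.P, f.P_onLine hF hσ⟩} = q := by
    refine Eq.trans ?_ (f.card_tSU hF hσ)
    have hmem : ∀ t : (tSU f.x : Subgroup SU3), t.1 ∈ f.SE := fun t =>
      (f.qSU_SE_iff hF hσ (tSU_le_qSU hF hσ f.isotX t.2)).2 t.2
    refine (Nat.card_congr (Equiv.ofBijective (fun t : (tSU f.x : Subgroup SU3) =>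
      (⟨⟨t.1 • f.R, f.SE_smul hF hσ (hmem t) (f.R_onLine hF hσ)⟩, ?_⟩ :
        {R : {R : Pt F q // f.OnLine R} // R ≠ ⟨f.P, f.P_onLine hF hσ⟩})) ⟨?_, ?_⟩)).symm
    · intro h
      refine f.P_ne_R hF hσ (MulAction.injective t.1 ((congrArg Subtype.val h).trans ?_))
      exact (f.qSU_le_B hF hσ (tSU_le_qSU hF hσ f.isotX t.2)).symm
    · intro a b e
      have e0 : a.1 • f.R = b.1 • f.R := congrArg (fun z => z.1.1) e
      exact Subtype.ext (inv_mul_eq_one.1 (f.qSU_semiregular hF hσ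
        (tSU_le_qSU hF hσ f.isotX (mul_mem (inv_mem a.2) b.2)) (P_ne_R hF hσ f)
        (by rw [mul_smul, ← e0, inv_smul_smul])))
    · rintro ⟨⟨R, hRl⟩, hR⟩
      obtain ⟨g, hg, hgR⟩ := f.exists_qSU_move hF hσ R (fun h => hR (Subtype.ext h))
      refine ⟨⟨g, (f.mem_tSU_iff_alpha hF hσ).2 ⟨hg, ?_⟩⟩, Subtype.ext (Subtype.ext hgR)⟩
      rw [← hgR, Fr.R, pt_smul, f.onLine_pt hF hσ, f.act_y hF hσ hg] at hRl
      simp only [hadd_left hF hσ, hsmul_left hF hσ, f.hxe, f.hye, mul_zero, zero_add, add_zero,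
        div_mul_cancel₀ _ f.hee, neg_eq_zero, map_eq_zero_iff σ σ.injective] at hRl
      exact hRl
  rw [Nat.card_eq_fintype_card, Fintype.card_subtype_compl, Fintype.card_subtype_eq] at h1
  rw [Nat.card_eq_fintype_card]
  have : 0 < Fintype.card {R : Pt F q // f.OnLine R} :=
    Fintype.card_pos_iff.2 ⟨⟨f.P, f.P_onLine hF hσ⟩⟩
  omega

theorem act_coords {g : SU3} (hg : g ∈ f.SE) {w : V3} (hw : h3 w f.e = 0) (u : V3) :
    h3 (act g w) u = h3 w f.y * h3 (act g f.x) u + h3 w f.x * h3 (act g f.y) u := by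
  conv_lhs => rw [f.perp_decomp hF hσ hw, act_add, act_smul, act_smul, hadd_left hF hσ, hsmul_left hF hσ,
    hsmul_left hF hσ]

/-- The matrix on the line. -/
noncomputable def mat : f.SE →* Matrix (Fin 2) (Fin 2) (AlgebraicClosure F) where
  toFun g := (!![h3 (act g.1 f.x) f.y, h3 (act g.1 f.y) f.y;
      h3 (act g.1 f.x) f.x, h3 (act g.1 f.y) f.x]).map (algebraMap F (AlgebraicClosure F))
  map_one' := by
    ext i j
    fin_cases i <;> fin_cases j <;> simp [act_one, f.hxy, f.hy, f.hx, f.hyx]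
  map_mul' g g' := by
    rw [← Matrix.map_mul]
    congr 1
    have hx := f.SE_perp hF hσ g'.2 f.hxe
    have hy := f.SE_perp hF hσ g'.2 f.hye
    ext i j
    fin_cases i <;> fin_cases j <;>
      simp [Matrix.mul_apply, Fin.sum_univ_two, act_mul, f.act_coords hF hσ g.2 hx,
        f.act_coords hF hσ g.2 hy] <;> ring

/-- The projective representation on the line. -/
noncomputable def rho : f.SE →* Matrix.ProjGenLinGroup (Fin 2) (AlgebraicClosure F) :=
  Matrix.ProjGenLinGroup.mk.comp (f.mat hF hσ).toHomUnits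

theorem coords_ne {R : Pt F q} (hR : f.OnLine R) :
    (fun i => algebraMap F (AlgebraicClosure F) (![h3 R.1.rep f.y, h3 R.1.rep f.x] i)) ≠ 0 := by
  intro h
  refine R.1.rep_nonzero ?_
  have h0 : h3 R.1.rep f.y = 0 := by simpa using congrFun h 0
  have h1 : h3 R.1.rep f.x = 0 := by simpa using congrFun h 1
  rw [f.perp_decomp hF hσ hR, h0, h1, zero_smul, zero_smul, add_zero]

/-- The point of the projective line. -/
noncomputable def phi (R : {R : Pt F q // f.OnLine R}) :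
    ℙ (AlgebraicClosure F) (Fin 2 → AlgebraicClosure F) :=
  Projectivization.mk _ _ (f.coords_ne hF hσ R.2)

theorem phi_smul (g : f.SE) (R : {R : Pt F q // f.OnLine R}) :
    f.rho hF hσ g • f.phi hF hσ R = f.phi hF hσ ⟨g.1 • R.1, f.SE_smul hF hσ g.2 R.2⟩ := by
  obtain ⟨⟨P, hiso⟩, hP⟩ := R
  rw [phi, phi, rho, MonoidHom.comp_apply, Projectivization.PGL.mk_smul_mk,
    Projectivization.mk_eq_mk_iff']
  obtain ⟨a, ha⟩ := Projectivization.exists_smul_eq_mk_rep F (act g.1 P.rep) (act_ne_zero g.1 P.rep_nonzero)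
  refine ⟨algebraMap F (AlgebraicClosure F) ((a⁻¹ : Fˣ) : F), ?_⟩
  have hr : (g.1 • (⟨P, hiso⟩ : Pt F q)).1.rep = (a : F) • act g.1 P.rep := ha.symm
  have hcoord := f.act_coords hF hσ g.2 hP
  ext i
  fin_cases i <;>
    simp [hr, hsmul_left hF hσ, hcoord, Units.smul_def, Matrix.smul_eq_mulVec, Matrix.mulVec, dotProduct,
      Fin.sum_univ_two, Fr.mat, mul_comm, ← map_mul, ← map_add]
  all_goals rw [map_mul, inv_mul_cancel_left₀ (by simpa using a.ne_zero)]

theorem phi_injective : Function.Injective (f.phi hF hσ) := by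
  rintro ⟨⟨P, hP⟩, hPl⟩ ⟨⟨P', hP'⟩, hPl'⟩ h
  rw [phi, phi, Projectivization.mk_eq_mk_iff'] at h
  obtain ⟨c, hc⟩ := h
  have c0 : c * algebraMap F (AlgebraicClosure F) (h3 P'.rep f.y) = algebraMap F _ (h3 P.rep f.y) := by
    simpa using congrFun hc 0
  have c1 : c * algebraMap F (AlgebraicClosure F) (h3 P'.rep f.x) = algebraMap F _ (h3 P.rep f.x) := by
    simpa using congrFun hc 1
  have hdet : h3 P.rep f.y * h3 P'.rep f.x = h3 P.rep f.x * h3 P'.rep f.y := by
    apply (algebraMap F (AlgebraicClosure F)).injective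
    rw [map_mul, map_mul, ← c0, ← c1]
    ring
  have hd := f.perp_decomp hF hσ hPl
  have hd' := f.perp_decomp hF hσ hPl'
  suffices ∃ a : F, P'.rep = a • P.rep by
    obtain ⟨a, ha⟩ := this
    refine Subtype.ext (Subtype.ext ?_)
    show P = P'
    rw [← P.mk_rep, ← P'.mk_rep, eq_comm, Projectivization.mk_eq_mk_iff']
    exact ⟨a, ha.symm⟩
  dsimp only at hd hd'
  generalize h3 P.rep f.y = A, h3 P.rep f.x = B, h3 P'.rep f.y = A', h3 P'.rep f.x = B' at hd hd' hdet ⊢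
  by_cases hc0 : B = 0
  · have hy0 : A ≠ 0 := fun h0 => P.rep_nonzero (by
      rw [hd, h0, hc0, zero_smul, zero_smul, add_zero])
    rw [hc0, zero_mul] at hdet
    have := (mul_eq_zero.1 hdet).resolve_left hy0
    refine ⟨A' / A, ?_⟩
    rw [hc0, zero_smul, add_zero] at hd
    rw [this, zero_smul, add_zero] at hd'
    conv_lhs => rw [hd']
    conv_rhs => rw [hd]
    rw [smul_smul, div_mul_cancel₀ _ hy0]
  · refine ⟨B' / B, ?_⟩
    conv_lhs => rw [hd']
    conv_rhs => rw [hd]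
    rw [smul_add, smul_smul, smul_smul, div_mul_cancel₀ _ hc0, div_mul_eq_mul_div,
      show B' * A = A' * B by linear_combination hdet,
      mul_div_cancel_right₀ _ hc0]

end Fr

section Char

variable {p : ℕ} [hp : Fact p.Prime] [CharP F p]

/-- The group induced on the line by a subgroup with elations at every point of it. -/
theorem line_elations (f : Fr F q) (L : Subgroup SU3) (hL : L ≤ f.SE) (hq3 : 3 ≤ q) (h5 : q ≠ 5)
    (hall : ∀ R, f.OnLine R → ∃ g ∈ L, g ≠ 1 ∧ (∃ k, g ^ p ^ k = 1) ∧ g • R = R) :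
    Nat.card ↥(L ⊓ tSU f.x) = q ∨ (p = 2 ∧ Nat.card ↥(L ⊓ tSU f.x) = 2) ∨
      (q = 9 ∧ Nat.card ↥(L ⊓ tSU f.x) = 3) := by
  classical
  haveI := finite_pt hF hσ
  haveI : CharP (AlgebraicClosure F) p :=
    charP_of_injective_algebraMap (algebraMap F (AlgebraicClosure F)).injective p
  haveI : Finite SU3 := inferInstance
  -- the Sylow subgroups
  have hfix : ∀ Q : Sylow p L, ∃ R : Pt F q, f.OnLine R ∧ (∀ g ∈ (Q : Subgroup L), g.1 • R = R) ∧
      (Q : Subgroup L) ≠ ⊥ := by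
    intro Q
    obtain ⟨g₀, hg₀L, hg₀1, ⟨k₀, hk₀⟩, hg₀P⟩ := hall f.P (f.P_onLine hF hσ)
    have hne : (Q : Subgroup L) ≠ ⊥ := by
      intro hbot
      have hz : IsPGroup p (Subgroup.zpowers (⟨g₀, hg₀L⟩ : L)) := by
        obtain ⟨i, -, hi⟩ := (Nat.dvd_prime_pow hp.out).1 (orderOf_dvd_of_pow_eq_one
          (show (⟨g₀, hg₀L⟩ : L) ^ p ^ k₀ = 1 from Subtype.ext hk₀))
        exact IsPGroup.of_card (n := i) (by rw [Nat.card_zpowers, hi])
      obtain ⟨Q', hQ'⟩ := hz.exists_le_sylow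
      obtain ⟨l, rfl⟩ := MulAction.exists_smul_eq L Q Q'
      have h1 : (⟨g₀, hg₀L⟩ : L) ∈ (l • Q : Sylow p L).1 := hQ' (Subgroup.mem_zpowers _)
      rw [Sylow.coe_subgroup_smul, hbot] at h1
      simp [Subgroup.smul_bot] at h1
      exact hg₀1 h1
    obtain ⟨R, hR⟩ := exists_fixed_pt hF hσ (p := p) (Q.2.map L.subtype)
    refine ⟨R, ?_, fun g hg => hR _ ⟨g, hg, rfl⟩, hne⟩
    -- a subgroup fixing a point of the line
    have hz : IsPGroup p (Subgroup.zpowers (⟨g₀, hg₀L⟩ : L)) := by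
      obtain ⟨i, -, hi⟩ := (Nat.dvd_prime_pow hp.out).1 (orderOf_dvd_of_pow_eq_one
        (show (⟨g₀, hg₀L⟩ : L) ^ p ^ k₀ = 1 from Subtype.ext hk₀))
      exact IsPGroup.of_card (n := i) (by rw [Nat.card_zpowers, hi])
    obtain ⟨Q', hQ'⟩ := hz.exists_le_sylow
    obtain ⟨l, rfl⟩ := MulAction.exists_smul_eq L Q' Q
    have hlR : g₀ • (l.1⁻¹ • R) = l.1⁻¹ • R := by
      have hmem : l * ⟨g₀, hg₀L⟩ * l⁻¹ ∈ ((l • Q' : Sylow p L) : Subgroup L) := by
        rw [Sylow.coe_subgroup_smul]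
        exact Subgroup.smul_mem_pointwise_smul _ (MulAut.conj l) _ (hQ' (Subgroup.mem_zpowers _))
      have := hR _ ⟨_, hmem, rfl⟩
      simp only [Subgroup.coe_subtype, Subgroup.coe_mul, Subgroup.coe_inv, mul_smul] at this
      rw [eq_inv_smul_iff]
      exact this
    have := fixed_unique hF hσ hk₀ hg₀1 hg₀P hlR
    rw [← smul_inv_smul l.1 R, this]
    exact f.SE_smul hF hσ (hL l.2) (f.P_onLine hF hσ)
  choose pf hpfl hpf hQne using hfix
  have huniq : ∀ (Q : Sylow p L) (g : L), g ∈ (Q : Subgroup L) → g ≠ 1 → ∀ R, g.1 • R = R → R = pf Q := by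
    intro Q g hg hg1 R hR
    obtain ⟨k, hk⟩ := Q.2 ⟨g, hg⟩
    exact fixed_unique hF hσ (congrArg (fun z => ((z.1 : L) : SU3)) hk) (fun h => hg1 (Subtype.ext h))
      (hpf Q g hg) hR
  have hstab : ∀ (Q : Sylow p L) (g : L) (k : ℕ), g ^ p ^ k = 1 → g.1 • pf Q = pf Q → g ∈ (Q : Subgroup L) := by
    intro Q g k hk hgR
    obtain ⟨fr, hfr⟩ := exists_fr_pt hF hσ (pf Q)
    let S : Subgroup L := (qSU fr.x : Subgroup SU3).subgroupOf L
    have hS : IsPGroup p S := by
      intro s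
      obtain ⟨i, hi⟩ := fr.isPGroup_qSU' hF hσ (p := p) ⟨s.1.1, s.2⟩
      exact ⟨i, Subtype.ext (Subtype.ext (by simpa using congrArg Subtype.val hi))⟩
    have hQS : (Q : Subgroup L) ≤ S := fun s hs => by
      obtain ⟨i, hi⟩ := Q.2 ⟨s, hs⟩
      exact fr.mem_qSU_of_pow hF hσ (show s.1 • fr.P = fr.P by rw [hfr]; exact hpf Q s hs)
        (congrArg (fun z => ((z.1 : L) : SU3)) hi)
    rw [← Q.3 hS hQS]
    exact fr.mem_qSU_of_pow hF hσ (show g.1 • fr.P = fr.P by rw [hfr]; exact hgR) (congrArg Subtype.val hk)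
  let pf' : Sylow p L → {R : Pt F q // f.OnLine R} := fun Q => ⟨pf Q, hpfl Q⟩
  have hbij : Function.Bijective pf' := by
    refine ⟨fun Q Q' e => Sylow.ext (le_antisymm ?_ ?_), fun R => ?_⟩
    · intro g hg
      obtain ⟨k, hk⟩ := Q.2 ⟨g, hg⟩
      have e' : pf Q = pf Q' := congrArg Subtype.val e
      exact hstab Q' g k (congrArg Subtype.val hk)
        (by rw [← e']; exact hpf Q g hg)
    · intro g hg
      obtain ⟨k, hk⟩ := Q'.2 ⟨g, hg⟩
      have e' : pf Q = pf Q' := congrArg Subtype.val e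
      exact hstab Q g k (congrArg Subtype.val hk)
        (by rw [e']; exact hpf Q' g hg)
    · obtain ⟨g, hgL, hg1, ⟨k, hk⟩, hgR⟩ := hall R.1 R.2
      have hz : IsPGroup p (Subgroup.zpowers (⟨g, hgL⟩ : L)) := by
        obtain ⟨i, -, hi⟩ := (Nat.dvd_prime_pow hp.out).1 (orderOf_dvd_of_pow_eq_one
          (show (⟨g, hgL⟩ : L) ^ p ^ k = 1 from Subtype.ext hk))
        exact IsPGroup.of_card (n := i) (by rw [Nat.card_zpowers, hi])
      obtain ⟨Q, hQ⟩ := hz.exists_le_sylow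
      exact ⟨Q, Subtype.ext (huniq Q _ (hQ (Subgroup.mem_zpowers _))
        (fun h => hg1 (congrArg Subtype.val h)) _ hgR).symm⟩
  -- the image
  let ρ : L →* Matrix.ProjGenLinGroup (Fin 2) (AlgebraicClosure F) :=
    (f.rho hF hσ).comp (Subgroup.inclusion hL)
  have hsurj : Function.Surjective ρ.rangeRestrict := ρ.rangeRestrict_surjective
  have hρfix : ∀ (g : L) (R : {R : Pt F q // f.OnLine R}),
      ρ g • f.phi hF hσ R = f.phi hF hσ R ↔ g.1 • R.1 = R.1 := by
    intro g R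
    show f.rho hF hσ (Subgroup.inclusion hL g) • _ = _ ↔ _
    rw [f.phi_smul hF hσ, (f.phi_injective hF hσ).eq_iff, Subtype.ext_iff]
    rfl
  have hinj : ∀ (Q : Sylow p L) (g : L), g ∈ (Q : Subgroup L) → ρ g = 1 → g = 1 := by
    intro Q g hg h1
    by_contra hg1
    have a := huniq Q g hg hg1 _ ((hρfix g ⟨f.P, f.P_onLine hF hσ⟩).1 (by rw [h1, one_smul]))
    have b := huniq Q g hg hg1 _ ((hρfix g ⟨f.R, f.R_onLine hF hσ⟩).1 (by rw [h1, one_smul]))
    exact f.P_ne_R hF hσ (b.trans a.symm)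
  have hsylcard : Nat.card (Sylow p ρ.range) = q + 1 := by
    rw [← f.card_line hF hσ, ← Nat.card_eq_of_bijective pf' hbij]
    refine (Nat.card_eq_of_bijective (fun Q => Q.mapSurjective hsurj) ⟨fun Q Q' e => hbij.1 (Subtype.ext ?_),
      Sylow.mapSurjective_surjective hsurj p⟩).symm
    obtain ⟨g', hg', hg'1⟩ := (Q'.1.bot_or_exists_ne_one).resolve_left (hQne Q')
    have hm : ρ.rangeRestrict g' ∈ (Q.mapSurjective hsurj : Subgroup ρ.range) := by
      show ρ.rangeRestrict g' ∈ ((fun Q : Sylow p L => Q.mapSurjective hsurj) Q : Subgroup ρ.range)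
      rw [e, Sylow.coe_mapSurjective]
      exact ⟨g', hg', rfl⟩
    rw [Sylow.coe_mapSurjective] at hm
    obtain ⟨g, hg, hge⟩ := hm
    have h1 : ρ g = ρ g' := congrArg Subtype.val hge
    refine huniq Q' g' hg' hg'1 (pf' Q).1 ((hρfix g' (pf' Q)).1 ?_)
    rw [← h1, hρfix]
    exact hpf Q g hg
  obtain ⟨Q₀, hQ₀⟩ := hbij.2 ⟨f.P, f.P_onLine hF hσ⟩
  have hQ₀P : pf Q₀ = f.P := congrArg Subtype.val hQ₀
  have hm : Nat.card ↥(L ⊓ tSU f.x) = Nat.card (Q₀ : Subgroup L) := by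
    refine Nat.card_congr
      { toFun := fun g => ⟨⟨g.1, g.2.1⟩, ?_⟩, invFun := fun g => ⟨g.1.1, g.1.2, ?_⟩,
        left_inv := fun g => rfl, right_inv := fun g => rfl }
    · obtain ⟨k, hk⟩ := f.isPGroup_qSU' hF hσ (p := p) ⟨g.1, tSU_le_qSU hF hσ f.isotX g.2.2⟩
      refine hstab Q₀ _ k (Subtype.ext (by simpa using congrArg Subtype.val hk)) ?_
      rw [hQ₀P]
      exact f.qSU_le_B hF hσ (tSU_le_qSU hF hσ f.isotX g.2.2)
    · obtain ⟨k, hk⟩ := Q₀.2 g
      have hU := f.mem_qSU_of_pow hF hσ (show g.1.1 • f.P = f.P by rw [← hQ₀P]; exact hpf Q₀ _ g.2)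
        (congrArg (fun z => ((z.1 : L) : SU3)) hk)
      exact (f.qSU_SE_iff hF hσ hU).1 (hL g.1.2)
  set m := Nat.card ↥(L ⊓ tSU f.x) with hmdef
  have hcardS : ∀ S : Sylow p ρ.range, Nat.card (S : Subgroup ρ.range) = m := by
    intro S
    obtain ⟨Q, rfl⟩ := Sylow.mapSurjective_surjective hsurj p S
    rw [hm, Q₀.card_eq_multiplicity, ← Q.card_eq_multiplicity]
    rw [Sylow.coe_mapSurjective]
    refine (Nat.card_congr (Equiv.ofBijective
      (fun g : (Q : Subgroup L) => (⟨ρ.rangeRestrict g.1, Subgroup.mem_map_of_mem _ g.2⟩ :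
        ((Q : Subgroup L).map ρ.rangeRestrict : Subgroup ρ.range))) ⟨fun a b e => ?_, ?_⟩)).symm
    · have e' : ρ a.1 = ρ b.1 := congrArg (fun z => z.1.1) e
      exact Subtype.ext (inv_mul_eq_one.1 (hinj Q _ (mul_mem (inv_mem a.2) b.2)
        (by rw [map_mul, map_inv, e', inv_mul_cancel])))
    · rintro ⟨_, g, hg, rfl⟩
      exact ⟨⟨g, hg⟩, rfl⟩
  obtain ⟨a, ha0, hqa⟩ := exists_q_pow hF hσ (p := p)
  obtain ⟨S₀⟩ : Nonempty (Sylow p ρ.range) := inferInstance
  obtain ⟨b, hb⟩ := S₀.2.exists_card_eq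
  rw [hcardS S₀] at hb
  have hb0 : 0 < b := by
    rcases Nat.eq_zero_or_pos b with h0 | h0
    · exfalso
      refine hQne Q₀ (Subgroup.card_eq_one.1 ?_)
      rw [← hm, hb, h0, pow_zero]
    · exact h0
  have hpm : p ∣ m := hb ▸ dvd_pow_self p hb0.ne'
  have hdvd : m ∣ Nat.card ρ.range := hcardS S₀ ▸ Subgroup.card_subgroup_dvd_card _
  have hndvd : (q + 1) * m ∣ Nat.card ρ.range := by
    refine Nat.Coprime.mul_dvd_of_dvd_of_dvd ?_ (hsylcard ▸ (S₀.card_dvd_index.trans ?_)) hdvd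
    · rw [hb]
      refine Nat.Coprime.pow_right _ (Nat.Coprime.symm ((hp.out.coprime_iff_not_dvd).2 fun h => ?_))
      rw [hqa] at h
      exact hp.out.ne_one (Nat.dvd_one.1 ((Nat.dvd_add_right (dvd_pow_self p (by omega))).1 h))
    · exact Subgroup.index_dvd_card _
  haveI : Finite ρ.range := inferInstance
  rcases classify p ρ.range with ⟨-, hc⟩ | ⟨n, hn, hcop, ⟨eD⟩⟩ | ⟨x, hx, u, hu, hux⟩ | hA | hA | hA |
    ⟨Q, k, -, hQ, hnQ, -, -⟩
  · exfalso
    exact hp.out.ne_one ((Nat.gcd_eq_right (hpm.trans hdvd)).symm.trans hc)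
  · have hcard : Nat.card ρ.range = 2 * n := by rw [Nat.card_congr eD.toEquiv, DihedralGroup.nat_card]
    have hb2 : p ^ b ∣ 2 := by
      refine Nat.Coprime.dvd_of_dvd_mul_right ?_ (hcard ▸ hb ▸ hdvd)
      exact hcop.symm.pow_left b
    have hp2 : p = 2 := (Nat.prime_dvd_prime_iff_eq hp.out Nat.prime_two).1
      ((dvd_pow_self p hb0.ne').trans hb2)
    subst hp2
    refine Or.inr (Or.inl ⟨rfl, le_antisymm (hb ▸ Nat.le_of_dvd two_pos hb2) ?_⟩)
    rw [hb]
    exact Nat.le_self_pow hb0.ne' 2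
  · exfalso
    have key : ∀ R : {R : Pt F q // f.OnLine R}, f.phi hF hσ R = x := by
      intro R
      obtain ⟨Q, hQ⟩ := hbij.2 R
      obtain ⟨g, hg, hg1⟩ := (Q.1.bot_or_exists_ne_one).resolve_left (hQne Q)
      have hρg : ρ g ≠ 1 := fun h => hg1 (hinj Q g hg h)
      have hgfix : ρ g • f.phi hF hσ R = f.phi hF hσ R := by
        rw [hρfix, ← hQ]; exact hpf Q g hg
      have hgx : ρ g • x = x := hx ⟨ρ g, g, rfl⟩
      by_contra hne
      obtain ⟨i, hi⟩ := Q.2 ⟨g, hg⟩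
      have hpow : ρ g ^ p ^ i = 1 := by
        rw [← map_pow, show g ^ p ^ i = 1 from congrArg Subtype.val hi, map_one]
      refine (order_of_fix p hρg hgx).2 ⟨_, hne, hgfix⟩
        (isOfFinOrder_iff_pow_eq_one.2 ⟨_, pow_pos hp.out.pos i, hpow⟩) ?_
      obtain ⟨j, -, hj⟩ := (Nat.dvd_prime_pow hp.out).1 (orderOf_dvd_of_pow_eq_one hpow)
      rw [hj]
      refine dvd_pow_self p fun h0 => hρg ?_
      rw [h0, pow_zero] at hj
      exact orderOf_eq_one_iff.1 hj
    exact f.P_ne_R hF hσ (congrArg Subtype.val (f.phi_injective hF hσ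
      ((key ⟨f.R, f.R_onLine hF hσ⟩).trans (key ⟨f.P, f.P_onLine hF hσ⟩).symm)))
  rotate_left 3
  · left
    rw [← hcardS S₀, hQ S₀]
    omega
  all_goals
    obtain ⟨e⟩ := hA
    have hcard := Nat.card_congr e.toEquiv
    first
      | rw [nat_card_alternatingGroup, Nat.card_fin] at hcard
      | rw [Nat.card_perm, Nat.card_fin] at hcard
    generalize Nat.card ρ.range = N at hcard hndvd
    norm_num [Nat.factorial] at hcard
    rw [hcard] at hndvd
    exact small_arith hp.out h5 hq3 hqa hb hb0 hndvd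
      (by have := card_sylow_modEq_one p ρ.range; rwa [hsylcard] at this) (by norm_num)

end Char

end CfsgLib.U3MinIndex
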