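import Cfsg.Agent.Lib.U3MinIndex.Homology

/-!
# Four orders which do not occur for transitive subgroups
-/

set_option autoImplicit false
set_option linter.unusedSectionVars false

namespace CfsgLib.U3MinIndex

open Matrix CfsgLib.PSUAut CfsgLib.QdFreeU3

variable {F : Type*} [Field F] {q : ℕ}

local notation "V3" => Fin 3 → F
local notation "h3" => Cfsg.hermForm 3 F q
local notation "SU3" => (Cfsg.SU 3 F q)

/-- A normaliser of a subgroup of prime order contains an element of order `s` centralising it. -/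
theorem exists_commuting {G : Type*} [Group G] [Finite G] {r : G} {l : ℕ} (hl : l.Prime) (hr : orderOf r = l)
    (N : Subgroup G) (hN : N ≤ Subgroup.normalizer (Subgroup.zpowers r : Set G)) {s i : ℕ} (hs : s.Prime)
    (hdvd : s ^ i ∣ Nat.card N) (hnd : ¬ s ^ i ∣ l - 1) :
    ∃ u ∈ N, orderOf u = s ∧ Commute u r := by
  haveI : Fact s.Prime := ⟨hs⟩
  let R := Subgroup.zpowers r
  let ψ : N →* MulAut R := R.normalizerMonoidHom.comp (Subgroup.inclusion hN)
  have hcardR : Nat.card R = l := by rw [Nat.card_zpowers, hr]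
  have haut : Nat.card (MulAut R) = l - 1 := by
    rw [IsCyclic.card_mulAut, hcardR, Nat.totient_prime hl]
  have hsker : s ∣ Nat.card ψ.ker := by
    by_contra hns
    have hcop : Nat.Coprime (s ^ i) (Nat.card ψ.ker) :=
      Nat.Coprime.pow_left _ ((hs.coprime_iff_not_dvd).2 hns)
    have h1 : Nat.card N = Nat.card ψ.ker * Nat.card ψ.range := by
      rw [← Subgroup.index_ker, Subgroup.card_mul_index]
    rw [h1] at hdvd
    exact hnd (((hcop.dvd_of_dvd_mul_left hdvd).trans (Subgroup.card_subgroup_dvd_card _)).trans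
      (dvd_of_eq haut))
  obtain ⟨u, hu⟩ := exists_prime_orderOf_dvd_card' s hsker
  refine ⟨u.1.1, u.1.2, by rw [Subgroup.orderOf_coe, Subgroup.orderOf_coe, hu], ?_⟩
  have h2 := MonoidHom.mem_ker.1 u.2
  have hk3 : (ψ u.1 ⟨r, Subgroup.mem_zpowers r⟩ : R).1 = r := by rw [h2]; rfl
  exact mul_inv_eq_iff_eq_mul.1 (hk3 : u.1.1 * r * u.1.1⁻¹ = r)

/-- A generator of a Sylow subgroup of prime order, with the arithmetic of its normaliser. -/
theorem exists_sylow_gen {G : Type*} [Group G] [Finite G] (H : Subgroup G) {l : ℕ} (hl : l.Prime)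
    (hdvd : l ∣ Nat.card H) (hnd : ¬ l ^ 2 ∣ Nat.card H) :
    ∃ (r : H) (R : Sylow l H), orderOf r = l ∧ orderOf (r : G) = l ∧ (R : Subgroup H) = Subgroup.zpowers r ∧
      ∃ n : ℕ, n * Nat.card (Subgroup.normalizer (Subgroup.zpowers r : Set H)) = Nat.card H ∧ n % l = 1 ∧
        n ∣ Nat.card H / l := by
  haveI : Fact l.Prime := ⟨hl⟩
  obtain ⟨R⟩ : Nonempty (Sylow l H) := inferInstance
  obtain ⟨e, he⟩ := R.2.exists_card_eq
  have he1 : e = 1 := by
    have h1 : l ^ 1 ∣ l ^ e := he ▸ R.pow_dvd_card_of_pow_dvd_card (by rwa [pow_one])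
    have h1' := (Nat.pow_dvd_pow_iff_le_right hl.one_lt).1 h1
    by_contra h
    exact hnd ((pow_dvd_pow l (show 2 ≤ e by omega)).trans (he ▸ Subgroup.card_subgroup_dvd_card _))
  rw [he1, pow_one] at he
  obtain ⟨r, hr⟩ := exists_prime_orderOf_dvd_card' l (dvd_of_eq he.symm : l ∣ Nat.card (R : Subgroup H))
  rw [← Subgroup.orderOf_coe] at hr
  have hR : (R : Subgroup H) = Subgroup.zpowers r.1 :=
    (Subgroup.eq_of_le_of_card_ge (Subgroup.zpowers_le.2 r.2) (by rw [Nat.card_zpowers, hr, he])).symm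
  refine ⟨r.1, R, hr, by rw [Subgroup.orderOf_coe, hr], hR, Nat.card (Sylow l H), ?_, ?_, ?_⟩
  · rw [← hR, Sylow.card_eq_index_normalizer R, mul_comm]
    exact Subgroup.card_mul_index _
  · have := card_sylow_modEq_one l H
    rw [Nat.ModEq, Nat.one_mod_eq_one.2 hl.ne_one] at this
    exact this
  · have h1 := R.card_dvd_index
    have h2 := (R : Subgroup H).card_mul_index
    rw [he] at h2
    rw [← h2, Nat.mul_div_cancel_left _ hl.pos]
    exact h1

theorem mem_sq_eq {G : Type*} [Group G] {r : G} {l : ℕ} (hl : l.Prime) (hr : orderOf r = l) {z : G}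
    (hz : z * z = 1) (hzN : z ∈ Subgroup.normalizer (Subgroup.zpowers r : Set G)) :
    z * r * z⁻¹ = r ∨ z * r * z⁻¹ = r⁻¹ := by
  haveI : Fact l.Prime := ⟨hl⟩
  obtain ⟨k, hk⟩ := (Subgroup.mem_normalizer_iff.1 hzN r).1 (Subgroup.mem_zpowers r)
  simp only at hk
  have h1 : r ^ (k * k) = r := by
    have hzi : z⁻¹ = z := inv_eq_of_mul_eq_one_right hz
    calc r ^ (k * k) = (r ^ k) ^ k := zpow_mul _ _ _
      _ = (z * r * z⁻¹) ^ k := by rw [hk]
      _ = z * r ^ k * z⁻¹ := conj_zpow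
      _ = z * (z * r * z⁻¹) * z⁻¹ := by rw [hk]
      _ = (z * z) * r * (z * z)⁻¹ := by group
      _ = r := by rw [hz]; group
  have h2 : r ^ (k * k - 1) = 1 := by rw [_root_.zpow_sub, h1, zpow_one, mul_inv_cancel]
  have hk3 := orderOf_dvd_iff_zpow_eq_one.2 h2
  rw [hr, show k * k - 1 = (k - 1) * (k + 1) by ring] at hk3
  rw [← hk]
  rcases (Nat.prime_iff_prime_int.1 hl).dvd_mul.1 hk3 with h | h
  · left
    have := orderOf_dvd_iff_zpow_eq_one.1 (hr.symm ▸ h : (orderOf r : ℤ) ∣ k - 1)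
    rwa [_root_.zpow_sub_one, mul_inv_eq_one] at this
  · right
    have := orderOf_dvd_iff_zpow_eq_one.1 (hr.symm ▸ h : (orderOf r : ℤ) ∣ k + 1)
    rwa [_root_.zpow_add_one, mul_eq_one_iff_eq_inv] at this

variable [Fintype F] (hF : Fintype.card F = q ^ 2) {σ : F ≃+* F} (hσ : ∀ a, σ a = a ^ q)

include hF hσ

variable {p : ℕ} [hp : Fact p.Prime] [CharP F p]

include hp

/-- An involution cannot centralise an element of large prime order, `p` odd. -/
theorem no_invol_commute (hp2 : p ≠ 2) {i r : SU3} (hi : orderOf i = 2) {l : ℕ} (hl : l.Prime)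
    (hr : orderOf r = l) (h1 : ¬ l ∣ q ^ 2 - 1) (h2 : l ≠ p) (h3' : ¬ l ∣ q + 1) : ¬ Commute i r := by
  intro hc
  have hi2 : i ^ 2 = 1 := hi ▸ pow_orderOf_eq_one i
  obtain ⟨R, hR⟩ := invol_fixed hF hσ (p := p) hp2 (by rw [← pow_two]; exact hi2)
  obtain ⟨f, rfl⟩ := exists_fr_pt hF hσ R
  set u := f.lamHom hF hσ ⟨i, hR⟩
  have hu : (f.lam i) * (f.lam i) = 1 := by
    rw [← f.lam_mul hF hσ hR hR, ← pow_two, hi2, f.lam_one hF hσ]
  have hne : f.lam i ≠ 1 := by
    intro h
    have hU : i ∈ qSU f.x := (f.mem_qSU_iff hF hσ).2 (by rw [f.lam_spec hF hσ hR, h, one_smul])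
    obtain ⟨k, hk⟩ := f.isPGroup_qSU' hF hσ (p := p) ⟨i, hU⟩
    have hd := orderOf_dvd_of_pow_eq_one (x := i) (by simpa using congrArg Subtype.val hk)
    rw [hi] at hd
    exact hp2 ((Nat.prime_dvd_prime_iff_eq Nat.prime_two hp.out).1 (Nat.prime_two.dvd_of_dvd_pow hd)).symm
  have hm : f.lam i = -1 := (mul_self_eq_one_iff.1 hu).resolve_left hne
  have h20 : (-1 : F) ≠ 1 := hm ▸ hne
  obtain ⟨f', -, -, -, -, -, hcent⟩ := exists_line hF hσ (p := p) f hR
    (by rw [hm, map_neg, map_one]; ring)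
    (by rw [hm]; norm_num; exact h20) hi2
    (fun h => hp2 ((Nat.prime_dvd_prime_iff_eq hp.out Nat.prime_two).1 h))
  exact notMem_SE hF hσ (p := p) hl hr h1 h2 h3' f' ((hcent r).1 hc.symm)

theorem no_eight (hq : q = 8) (H : Subgroup SU3) (hH : Nat.card H = 36936) : False := by
  haveI : Fact (Nat.Prime 2) := ⟨Nat.prime_two⟩
  have hp2 : p = 2 := by
    have h : p ∣ 2 ^ 3 := by
      have h0 : p ∣ q := p_dvd_q hF hσ
      rw [hq] at h0
      norm_num
      exact h0
    exact (Nat.prime_dvd_prime_iff_eq hp.out Nat.prime_two).1 (hp.out.dvd_of_dvd_pow h)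
  subst hp2
  have h2F : (2 : F) = 0 := by exact_mod_cast CharP.cast_eq_zero F 2
  obtain ⟨r, R, hr', hr, -, n, hn, hnmod, hndvd⟩ :=
    exists_sylow_gen H (l := 19) (by norm_num) (by rw [hH]; norm_num) (by rw [hH]; norm_num)
  rw [hH] at hn hndvd
  have hn' : n = 1 ∨ n = 324 := by
    have key : ∀ m ∈ Nat.divisors 1944, m % 19 = 1 → m = 1 ∨ m = 324 := by decide +kernel
    exact key n (Nat.mem_divisors.2 ⟨hndvd, by norm_num⟩) hnmod
  have h2N : 2 ∣ Nat.card (Subgroup.normalizer (Subgroup.zpowers r : Set H)) := by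
    rcases hn' with rfl | rfl <;> omega
  obtain ⟨z₀, hz₀⟩ := exists_prime_orderOf_dvd_card' 2 h2N
  rw [← Subgroup.orderOf_coe] at hz₀
  have hz : orderOf z₀.1.1 = 2 := by rw [Subgroup.orderOf_coe, hz₀]
  have hsq : z₀.1 * z₀.1 = 1 := by rw [← pow_two, ← hz₀, pow_orderOf_eq_one]
  have hl : Nat.Prime 19 := by norm_num
  have hnf := no_fixed hF hσ (p := 2) hl hr (by rw [hq]; norm_num) (by norm_num)
  have hnS := notMem_SE hF hσ (p := 2) hl hr (by rw [hq]; norm_num) (by norm_num) (by rw [hq]; norm_num)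
  have htv : ∀ w : SU3, orderOf w = 2 → ∃ f : Fr F q, w ∈ tSU f.x ∧ w • f.P = f.P ∧
      ∀ S, w • S = S → S = f.P := by
    intro w hw
    have hw2 : w ^ 2 ^ 1 = 1 := by rw [pow_one, ← hw, pow_orderOf_eq_one]
    have hw1 : w ≠ 1 := fun h => by rw [h, orderOf_one] at hw; omega
    obtain ⟨R, hR⟩ := exists_fixed_pt hF hσ (p := 2) (IsPGroup.of_card (n := 1)
      (by rw [Nat.card_zpowers, hw, pow_one]) : IsPGroup 2 (Subgroup.zpowers w))
    obtain ⟨f, rfl⟩ := exists_fr_pt hF hσ R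
    have hfix := hR w (Subgroup.mem_zpowers w)
    have hU := f.mem_qSU_of_pow hF hσ hfix hw2
    refine ⟨f, (f.mem_tSU_iff_alpha hF hσ).2 ⟨hU, ?_⟩, hfix, fun S hS => fixed_unique hF hσ hw2 hw1 hfix hS⟩
    have h0 := (f.sq_two hF hσ h2F hU).2
    rw [← pow_two, ← hw, pow_orderOf_eq_one, f.beta_one hF hσ] at h0
    rcases mul_eq_zero.1 ((div_eq_zero_iff.1 h0.symm).resolve_right f.hee) with h | h
    · exact h
    · exact (map_eq_zero_iff σ σ.injective).1 h
  have hconj := mem_sq_eq hl hr' hsq z₀.2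
  obtain ⟨z, hzdef⟩ : ∃ z, z = z₀.1 := ⟨_, rfl⟩
  rw [← hzdef] at hz hconj
  obtain ⟨f, hzt, hzfix, hzu⟩ := htv z.1 hz
  have hz2 : z.1 * z.1 = 1 := by rw [← pow_two, ← hz, pow_orderOf_eq_one]
  rcases hconj.imp (congrArg Subtype.val) (congrArg Subtype.val) with h | h <;>
    simp only [Subgroup.coe_mul, Subgroup.coe_inv] at h
  · refine hnf f.P (hzu _ ?_)
    rw [← mul_smul, mul_inv_eq_iff_eq_mul.1 h, mul_smul, hzfix]
  · set z' := z.1 * r.1 with hz'
    have hz'2 : z' * z' = 1 := by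
      rw [hz', show z.1 * r.1 * (z.1 * r.1) = (z.1 * r.1 * z.1⁻¹) * (z.1 * z.1) * r.1 by group, h, hz2]
      group
    have hz'1 : z' ≠ 1 := by
      intro h0
      have : r.1 = z.1⁻¹ := eq_inv_of_mul_eq_one_right h0
      rw [this, orderOf_inv, hz] at hr
      omega
    obtain ⟨f₂, hzt', hz'fix, -⟩ := htv z' (orderOf_eq_prime (by rw [pow_two]; exact hz'2) hz'1)
    have hre : r.1 = z.1 * z' := by rw [hz', ← mul_assoc, hz2, one_mul]
    by_cases hPP : f₂.P = f.P
    · refine hnf f.P ?_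
      rw [hre, mul_smul, ← hPP, hz'fix, hPP, hzfix]
    · obtain ⟨f₃, h31, h32⟩ := exists_fr_pts hF hσ (Ne.symm hPP)
      refine hnS f₃ ⟨1, ?_⟩
      rw [one_smul, hre, act_mul]
      have he1 : h3 f₃.e f.x = 0 := by
        obtain ⟨a, ha⟩ := (pt_eq_iff _ _).1 h31
        rw [ha, hsmul_right hF hσ, f₃.hex, mul_zero]
      have he2 : h3 f₃.e f₂.x = 0 := by
        obtain ⟨a, ha⟩ := (pt_eq_iff _ _).1 h32
        rw [ha, hsmul_right hF hσ, f₃.hey, mul_zero]
      rw [(hzt' f₃.e).2 he2, (hzt f₃.e).2 he1]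

theorem no_nine (hq : q = 9) (H : Subgroup SU3) (hH : Nat.card H = 78840) : False := by
  have hp3 : p = 3 := by
    have h : p ∣ 3 ^ 2 := by
      have h0 : p ∣ q := p_dvd_q hF hσ
      rw [hq] at h0
      norm_num
      exact h0
    exact (Nat.prime_dvd_prime_iff_eq hp.out Nat.prime_three).1 (hp.out.dvd_of_dvd_pow h)
  subst hp3
  obtain ⟨r, R, hr', hr, -, n, hn, hnmod, hndvd⟩ :=
    exists_sylow_gen H (l := 73) (by norm_num) (by rw [hH]; norm_num) (by rw [hH]; norm_num)
  rw [hH] at hn hndvd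
  have hn' : n = 1 := by
    have key : ∀ m ∈ Nat.divisors 1080, m % 73 = 1 → m = 1 := by decide +kernel
    exact key n (Nat.mem_divisors.2 ⟨hndvd, by norm_num⟩) hnmod
  subst hn'
  obtain ⟨u₀, -, hu₀, hc₀⟩ := exists_commuting (by norm_num : Nat.Prime 73) hr'
    (Subgroup.normalizer (Subgroup.zpowers r : Set H)) le_rfl (s := 3) (i := 3)
    Nat.prime_three (by rw [one_mul] at hn; rw [hn]; norm_num) (by norm_num)
  obtain ⟨u, hudef⟩ : ∃ u, u = u₀.1 := ⟨_, rfl⟩
  have hu : orderOf u = 3 := by rw [hudef, Subgroup.orderOf_coe, hu₀]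
  have hc : Commute u r.1 := hudef ▸ congrArg Subtype.val hc₀.eq
  have hu3 : u ^ 3 ^ 1 = 1 := by
    rw [pow_one]
    have := pow_orderOf_eq_one u
    rwa [hu] at this
  have hu1 : u ≠ 1 := fun h => by rw [h, orderOf_one] at hu; omega
  obtain ⟨R, hR⟩ := exists_fixed_pt hF hσ (p := 3) (IsPGroup.of_card (n := 1)
    (by rw [Nat.card_zpowers, hu, pow_one]) : IsPGroup 3 (Subgroup.zpowers u))
  refine no_fixed hF hσ (p := 3) (by norm_num) hr (by rw [hq]; norm_num) (by norm_num) R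
    (fixed_unique hF hσ hu3 hu1 (hR u (Subgroup.mem_zpowers u)) ?_)
  rw [← mul_smul, hc.eq, mul_smul, hR u (Subgroup.mem_zpowers u)]

theorem no_three (hq : q = 3) (H : Subgroup SU3) (hH : Nat.card H = 224) : False := by
  have hp3 : p = 3 := (Nat.prime_dvd_prime_iff_eq hp.out Nat.prime_three).1 (hq ▸ p_dvd_q hF hσ)
  subst hp3
  obtain ⟨r, R, hr', hr, -, n, hn, hnmod, hndvd⟩ :=
    exists_sylow_gen H (l := 7) (by norm_num) (by rw [hH]; norm_num) (by rw [hH]; norm_num)
  rw [hH] at hn hndvd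
  have hn' : n = 1 ∨ n = 8 := by
    have key : ∀ m ∈ Nat.divisors 32, m % 7 = 1 → m = 1 ∨ m = 8 := by decide +kernel
    exact key n (Nat.mem_divisors.2 ⟨hndvd, by norm_num⟩) hnmod
  obtain ⟨u₀, -, hu₀, hc₀⟩ := exists_commuting (by norm_num : Nat.Prime 7) hr'
    (Subgroup.normalizer (Subgroup.zpowers r : Set H)) le_rfl (s := 2) (i := 2)
    Nat.prime_two (by norm_num; rcases hn' with rfl | rfl <;> omega) (by norm_num)
  obtain ⟨u, hudef⟩ : ∃ u, u = u₀.1 := ⟨_, rfl⟩
  have hu : orderOf u = 2 := by rw [hudef, Subgroup.orderOf_coe, hu₀]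
  have hc : Commute u r.1 := hudef ▸ congrArg Subtype.val hc₀.eq
  exact no_invol_commute hF hσ (p := 3) (by norm_num) hu (by norm_num : Nat.Prime 7) hr
    (by rw [hq]; norm_num) (by norm_num) (by rw [hq]; norm_num) hc

theorem no_eleven (hq : q = 11) (H : Subgroup SU3) (hH : Nat.card H = 439560)
    (hZ : Subgroup.center SU3 ≤ H) (f : Fr F q) (htr : ∀ R : Pt F q, ∃ g ∈ H, g • f.P = R) : False := by
  haveI := finite_pt hF hσ
  have hp11 : p = 11 := (Nat.prime_dvd_prime_iff_eq hp.out (by norm_num)).1 (hq ▸ p_dvd_q hF hσ)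
  subst hp11
  have hl : Nat.Prime 37 := by norm_num
  haveI : Fact (Nat.Prime 37) := ⟨hl⟩
  obtain ⟨r, R, hr', hr, hRz, n, hn, hnmod, hndvd⟩ :=
    exists_sylow_gen H (l := 37) hl (by rw [hH]; norm_num) (by rw [hH]; norm_num)
  rw [hH] at hn hndvd
  have hn' : n = 1 ∨ n = 297 ∨ n = 3960 := by
    have key : ∀ m ∈ Nat.divisors 11880, m % 37 = 1 → m = 1 ∨ m = 297 ∨ m = 3960 := by decide +kernel
    exact key n (Nat.mem_divisors.2 ⟨hndvd, by norm_num⟩) hnmod
  set N := Subgroup.normalizer (Subgroup.zpowers r : Set H) with hNdef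
  by_cases h8 : 2 ^ 3 ∣ Nat.card N
  · obtain ⟨u, -, hu, hc⟩ := exists_commuting hl hr' N le_rfl (s := 2) (i := 3)
      Nat.prime_two h8 (by norm_num)
    exact no_invol_commute hF hσ (p := 11) (by norm_num) (i := u.1) (by rw [Subgroup.orderOf_coe, hu]) hl hr
      (by rw [hq]; norm_num) (by norm_num) (by rw [hq]; norm_num) (congrArg Subtype.val hc.eq)
  have hN111 : Nat.card N = 111 := by
    rcases hn' with rfl | rfl | rfl <;> norm_num at h8 <;> omega
  -- the normaliser of a Sylow subgroup in `H` centralises it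
  obtain ⟨c, hc⟩ := exists_prime_orderOf_dvd_card' (G := Subgroup.center SU3) 3
    (by rw [CfsgLib.Classical.card_center_su hF (by omega : 2 ≤ 3), hq]; norm_num)
  let C' : Subgroup H := Subgroup.centralizer {r}
  have hcC : (⟨c.1, hZ c.2⟩ : H) ∈ C' :=
    Subgroup.mem_centralizer_singleton_iff.2 (Subtype.ext (Subgroup.mem_center_iff.1 c.2 r.1).symm)
  have hCN : C' ≤ N := by
    refine le_trans ?_ (Subgroup.centralizer_le_normalizer _)
    rw [Subgroup.zpowers_eq_closure, Subgroup.centralizer_closure]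
  have h111 : 3 * 37 ∣ Nat.card C' := by
    refine Nat.Coprime.mul_dvd_of_dvd_of_dvd (by norm_num) ?_ ?_
    · have := Subgroup.orderOf_dvd_natCard C' hcC
      rwa [← Subgroup.orderOf_coe, Subgroup.coe_mk, Subgroup.orderOf_coe, hc] at this
    · have := Subgroup.orderOf_dvd_natCard C' (Subgroup.mem_centralizer_singleton_iff.2 rfl : r ∈ C')
      rwa [hr'] at this
  have hCN' : C' = N := Subgroup.eq_of_le_of_card_ge hCN
    (hN111.le.trans (Nat.le_of_dvd Nat.card_pos h111))
  have hP : Subgroup.normalizer ((R : Subgroup H) : Set H) ≤ Subgroup.centralizer ((R : Subgroup H) : Set H) := by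
    rw [hRz, ← hNdef, ← hCN', Subgroup.zpowers_eq_closure, Subgroup.centralizer_closure]
  -- the normal complement contains the stabiliser of a point, and has too few points
  set T := MonoidHom.transferSylow R hP with hT
  set K := T.ker with hK
  have hRcard : Nat.card (R : Subgroup H) = 37 := by rw [hRz, Nat.card_zpowers, hr']
  have hKcard : Nat.card K = 11880 := by
    have h := (MonoidHom.ker_transferSylow_isComplement' R hP).card_mul
    rw [hRcard, hH, ← hK] at h
    omega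
  let Hx := MulAction.stabilizer H f.P
  have horb : MulAction.orbit H f.P = Set.univ := Set.eq_univ_of_forall fun R => by
    obtain ⟨g, hg, hgR⟩ := htr R
    exact ⟨⟨g, hg⟩, hgR⟩
  have hHx : Nat.card Hx = 330 := by
    have h1 := Nat.card_congr (MulAction.orbitProdStabilizerEquivGroup H f.P)
    have hq3 : q ^ 3 + 1 = 1332 := by rw [hq]; norm_num
    rw [Nat.card_prod, horb, Nat.card_congr (Equiv.Set.univ _), card_pt hF hσ, hH, hq3] at h1
    show Nat.card (MulAction.stabilizer H f.P) = 330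
    omega
  have hle : Hx ≤ K := by
    intro g hg
    refine MonoidHom.mem_ker.2 (orderOf_eq_one_iff.1 (Nat.eq_one_of_dvd_coprimes (a := 37) (b := 330)
      (by norm_num) ?_ ((orderOf_map_dvd T g).trans ?_)))
    · exact (orderOf_dvd_natCard _).trans (dvd_of_eq hRcard)
    · rw [← hHx]
      exact Subgroup.orderOf_dvd_natCard _ hg
  obtain ⟨u, hu⟩ := exists_prime_orderOf_dvd_card' 11 (by rw [hHx]; norm_num : 11 ∣ Nat.card Hx)
  let uK : K := ⟨u.1, hle u.2⟩
  have huK : orderOf uK = 11 := by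
    rw [← Subgroup.orderOf_coe]
    show orderOf u.1 = 11
    rw [Subgroup.orderOf_coe, hu]
  have hu1 : u.1.1 ≠ 1 := fun h => by
    rw [show u = 1 from Subtype.ext (Subtype.ext h), orderOf_one] at hu
    omega
  have hpg : IsPGroup 11 (Subgroup.zpowers uK) := IsPGroup.of_card (n := 1)
    (by rw [Nat.card_zpowers, huK, pow_one])
  have h36 : Nat.card (MulAction.orbit K f.P) = 36 := by
    have h1 := Nat.card_congr (MulAction.orbitProdStabilizerEquivGroup K f.P)
    have h2 : Nat.card (MulAction.stabilizer K f.P) = 330 := by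
      rw [← hHx]
      exact Nat.card_congr
        { toFun := fun g => ⟨g.1.1, g.2⟩
          invFun := fun g => ⟨⟨g.1, hle g.2⟩, g.2⟩
          left_inv := fun g => rfl
          right_inv := fun g => rfl }
    rw [Nat.card_prod, h2, hKcard] at h1
    omega
  have hmod := hpg.card_modEq_card_fixedPoints (MulAction.orbit K f.P)
  have hfix : Nat.card (MulAction.fixedPoints (Subgroup.zpowers uK) (MulAction.orbit K f.P)) = 1 := by
    rw [Nat.card_eq_one_iff_unique]
    have hP0 : ∀ g : Subgroup.zpowers uK, g.1.1.1 • f.P = f.P := fun g => by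
      have : Subgroup.zpowers uK ≤ MulAction.stabilizer K f.P := Subgroup.zpowers_le.2 u.2
      exact this g.2
    refine ⟨⟨fun a b => ?_⟩, ⟨⟨⟨f.P, MulAction.mem_orbit_self _⟩, fun g => Subtype.ext (hP0 g)⟩⟩⟩
    have hfixed : ∀ a : MulAction.fixedPoints (Subgroup.zpowers uK) (MulAction.orbit K f.P),
        a.1.1 = f.P := fun a => by
      have h0 := congrArg Subtype.val (a.2 ⟨uK, Subgroup.mem_zpowers _⟩)
      exact fixed_unique hF hσ (p := 11) (k := 1)
        (by
          have h11 := congrArg (fun z : Hx => (z.1.1 : SU3)) (pow_orderOf_eq_one u)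
          rw [hu] at h11
          rw [pow_one]
          exact h11) hu1 u.2 h0
    exact Subtype.ext (Subtype.ext ((hfixed a).trans (hfixed b).symm))
  rw [hfix, h36] at hmod
  exact absurd hmod (by decide)

end CfsgLib.U3MinIndex
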