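import Cfsg.Agent.Lib.U3MinIndex.Count

/-!
# The stabiliser of a point of the unital
-/

set_option autoImplicit false
set_option linter.unusedSectionVars false

namespace CfsgLib.U3MinIndex

open Matrix CfsgLib.PSUAut CfsgLib.QdFreeU3

variable {F : Type*} [Field F] {q : ℕ}

local notation "V3" => Fin 3 → F
local notation "h3" => Cfsg.hermForm 3 F q
local notation "SU3" => (Cfsg.SU 3 F q)

variable [Fintype F] (hF : Fintype.card F = q ^ 2) {σ : F ≃+* F} (hσ : ∀ a, σ a = a ^ q)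

include hF hσ

namespace Fr

variable (f : Fr F q)

theorem act_x_inv {k : SU3} (hk : k ∈ f.B) : act k⁻¹ f.x = (f.lam k)⁻¹ • f.x := by
  have := congrArg (fun w => (f.lam k)⁻¹ • act k⁻¹ w) (f.lam_spec hF hσ hk)
  simp only [act_inv_apply, act_smul, smul_smul, inv_mul_cancel₀ (f.lam_ne_zero hF hσ hk), one_smul] at this
  exact this.symm

theorem act_e_B {k : SU3} (hk : k ∈ f.B) :
    ∃ r m : F, act k f.e = r • f.x + m • f.e ∧ f.lam k * m = σ (f.lam k) := by
  set l := f.lam k with hl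
  have hl0 := f.lam_ne_zero hF hσ hk
  have h1 := decomp hF hσ f (act k f.e)
  have h2 : h3 (act k f.e) f.x = 0 := by
    have h0 := act_form k f.e f.x
    rw [f.lam_spec hF hσ hk, hsmul_right hF hσ, f.hex] at h0
    exact (mul_eq_zero.1 h0).resolve_left ((map_ne_zero_iff σ σ.injective).2 hl0)
  rw [h2, zero_smul, add_zero] at h1
  set r := h3 (act k f.e) f.y
  set m := h3 (act k f.e) f.e / h3 f.e f.e
  refine ⟨r, m, h1, ?_⟩
  have hy0 := decomp hF hσ f (act k f.y)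
  have hn : h3 (act k f.y) f.x * σ l = 1 := by
    have h0 := act_form k f.y f.x
    rw [f.lam_spec hF hσ hk, hsmul_right hF hσ, f.hyx] at h0
    rw [mul_comm]; exact h0
  set r' := h3 (act k f.y) f.y
  set m' := h3 (act k f.y) f.e / h3 f.e f.e
  set n := h3 (act k f.y) f.x
  set T : Matrix (Fin 3) (Fin 3) F := !![l, r, r'; 0, m, m'; 0, 0, n] with hT
  set B : Matrix (Fin 3) (Fin 3) F := (Matrix.of ![f.x, f.e, f.y])ᵀ with hB
  have hBd : B.det ≠ 0 := by
    rw [hB, det_transpose]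
    exact ((Matrix.isUnit_iff_isUnit_det _).1 (Matrix.linearIndependent_rows_iff_isUnit.1 f.li)).ne_zero
  have e1 : (k.1 : Matrix (Fin 3) (Fin 3) F) * B = B * T := by
    ext i j
    rw [Matrix.mul_apply, Matrix.mul_apply]
    have hv : ∀ v : V3, ∑ u, (k.1 : Matrix (Fin 3) (Fin 3) F) i u * v u = act k v i := fun v => rfl
    fin_cases j
    · have := (hv f.x).trans (congrFun (f.lam_spec hF hσ hk) i)
      simp [hB, hT, Fin.sum_univ_three] at this ⊢
      linear_combination this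
    · have := (hv f.e).trans (congrFun h1 i)
      simp [hB, hT, Fin.sum_univ_three] at this ⊢
      linear_combination this
    · have := (hv f.y).trans (congrFun hy0 i)
      simp [hB, hT, Fin.sum_univ_three] at this ⊢
      linear_combination this
  have hd := congrArg Matrix.det e1
  rw [det_mul, det_mul, show (k.1 : Matrix (Fin 3) (Fin 3) F).det = 1 from k.1.2, one_mul] at hd
  have hT1 : T.det = 1 := (mul_left_cancel₀ hBd (hd.symm.trans (mul_one _).symm))
  rw [hT] at hT1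
  simp [Matrix.det_fin_three] at hT1
  linear_combination σ l * hT1 - l * m * hn

theorem alpha_conj {k g : SU3} (hk : k ∈ f.B) (hg : g ∈ qSU f.x) :
    f.alpha (k * g * k⁻¹) = f.lam k * f.lam k / σ (f.lam k) * f.alpha g := by
  obtain ⟨r, m, he, hm⟩ := f.act_e_B hF hσ hk
  have hkg := f.conj_mem hF hσ hk hg
  have h1 : act (k * g * k⁻¹) (act k f.e) = act k f.e + (f.alpha g * f.lam k) • f.x := by
    rw [act_mul, act_inv_apply, act_mul, f.act_e hF hσ hg, act_add, act_smul, f.lam_spec hF hσ hk, smul_smul]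
    abel
  rw [he, act_add, act_smul, act_smul, hkg.1, f.act_e hF hσ hkg] at h1
  have h2 := congrArg (fun w => h3 w f.y) h1
  simp only [hadd_left hF hσ, hsmul_left hF hσ, f.hxy, f.hey, mul_one, mul_zero, add_zero] at h2
  have hl0 := f.lam_ne_zero hF hσ hk
  rw [div_mul_eq_mul_div, eq_div_iff ((map_ne_zero_iff σ σ.injective).2 hl0)]
  linear_combination f.lam k * h2 - f.alpha (k * g * k⁻¹) * hm

theorem beta_conj {k t : SU3} (hk : k ∈ f.B) (ht : t ∈ tSU f.x) :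
    f.beta (k * t * k⁻¹) = f.lam k * σ (f.lam k) * f.beta t := by
  obtain ⟨c, hc, hct⟩ := (CfsgLib.PSUAut.mem_tSU_iff hF hσ f.isotX t).1 ht
  have hb : f.beta t = c := by
    rw [Fr.beta, hct, hadd_left hF hσ, hsmul_left hF hσ, f.hy, f.hyx, f.hxy]; ring
  have h1 : h3 (act k⁻¹ f.y) f.x = σ (f.lam k) := by
    rw [← act_form k, act_apply_inv, f.lam_spec hF hσ hk, hsmul_right hF hσ, f.hyx, mul_one]
  rw [Fr.beta, act_mul, act_mul, hct, h1, act_add, act_smul, act_apply_inv, f.lam_spec hF hσ hk,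
    hadd_left hF hσ, hsmul_left hF hσ, hsmul_left hF hσ, f.hy, f.hxy, hb]
  ring

theorem conj_tSU {k t : SU3} (hk : k ∈ f.B) (ht : t ∈ tSU f.x) : k * t * k⁻¹ ∈ tSU f.x := by
  obtain ⟨h1, h2⟩ := (f.mem_tSU_iff_alpha hF hσ).1 ht
  exact (f.mem_tSU_iff_alpha hF hσ).2 ⟨f.conj_mem hF hσ hk h1, by rw [f.alpha_conj hF hσ hk h1, h2, mul_zero]⟩

theorem alpha_inv {g : SU3} (hg : g ∈ qSU f.x) : f.alpha g⁻¹ = -f.alpha g := by
  have := f.alpha_mul hF hσ hg (inv_mem hg)
  rw [mul_inv_cancel, f.alpha_one hF hσ] at this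
  linear_combination -this

theorem comm_beta {g g' : SU3} (hg : g ∈ qSU f.x) (hg' : g' ∈ qSU f.x) :
    g * g' * (g' * g)⁻¹ ∈ tSU f.x ∧ f.beta (g * g' * (g' * g)⁻¹) =
      (f.alpha g' * σ (f.alpha g) - f.alpha g * σ (f.alpha g')) / h3 f.e f.e := by
  have h1 := mul_mem hg hg'
  have h2 := mul_mem hg' hg
  have ha : f.alpha (g * g' * (g' * g)⁻¹) = 0 := by
    rw [f.alpha_mul hF hσ h1 (inv_mem h2), f.alpha_inv hF hσ h2, f.alpha_mul hF hσ hg hg',
      f.alpha_mul hF hσ hg' hg]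
    ring
  refine ⟨(f.mem_tSU_iff_alpha hF hσ).2 ⟨mul_mem h1 (inv_mem h2), ha⟩, ?_⟩
  have h := f.beta_mul hF hσ (mul_mem h1 (inv_mem h2)) h2
  rw [inv_mul_cancel_right, ha, zero_mul, zero_div, sub_zero, f.beta_mul hF hσ hg hg',
    f.beta_mul hF hσ hg' hg] at h
  have := f.hee
  field_simp at h ⊢
  linear_combination -h

theorem sq_two (h2 : (2 : F) = 0) {g : SU3} (hg : g ∈ qSU f.x) :
    g * g ∈ tSU f.x ∧ f.beta (g * g) = f.alpha g * σ (f.alpha g) / h3 f.e f.e := by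
  refine ⟨(f.mem_tSU_iff_alpha hF hσ).2 ⟨mul_mem hg hg, ?_⟩, ?_⟩
  · rw [f.alpha_mul hF hσ hg hg]
    linear_combination f.alpha g * h2
  · rw [f.beta_mul hF hσ hg hg]
    linear_combination (f.beta g - f.alpha g * σ (f.alpha g) / h3 f.e f.e) * h2

section Char

variable {p : ℕ} [Fact p.Prime] [CharP F p]

theorem mem_qSU_of_pow {g : SU3} (hg : g ∈ f.B) {k : ℕ} (hk : g ^ p ^ k = 1) : g ∈ qSU f.x := by
  rw [← f.ker_lamHom hF hσ (g := ⟨g, hg⟩)]
  set u := f.lamHom hF hσ ⟨g, hg⟩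
  have hu : u ^ p ^ k = 1 := by
    rw [← map_pow, show (⟨g, hg⟩ : f.B) ^ p ^ k = 1 from Subtype.ext hk, map_one]
  have h1 : ((u : F) - 1) ^ p ^ k = 0 := by
    rw [sub_pow_char_pow, one_pow, ← Units.val_pow_eq_pow_val, hu, Units.val_one, sub_self]
  exact Units.ext (sub_eq_zero.1 (eq_zero_of_pow_eq_zero h1))

theorem isPGroup_qSU' : IsPGroup p (qSU f.x : Subgroup SU3) :=
  CfsgLib.PSUAut.isPGroup_qSU hF hσ (by omega) f.isotX

end Char

end Fr

section Char

variable {p : ℕ} [Fact p.Prime] [CharP F p]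

theorem exists_fixed_pt {P : Subgroup SU3} (hP : IsPGroup p P) : ∃ R : Pt F q, ∀ g ∈ P, g • R = R := by
  obtain ⟨x, hx, hfix⟩ := exists_iso_fixed hF hσ (by omega : 2 ≤ 3) hP
  exact ⟨pt x hx, fun g hg => smul_pt_eq_self.2 ⟨1, by rw [one_smul]; exact hfix g hg⟩⟩

theorem fixed_unique {g : SU3} {k : ℕ} (hk : g ^ p ^ k = 1) (hg : g ≠ 1) {P R : Pt F q} (hP : g • P = P)
    (hR : g • R = R) : R = P := by
  by_contra hne
  obtain ⟨f, rfl⟩ := exists_fr_pt hF hσ P
  exact hg (f.qSU_semiregular hF hσ (f.mem_qSU_of_pow hF hσ hP hk) hne hR)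

theorem p_dvd_q : p ∣ q := by
  obtain ⟨n, hpp, hc⟩ := FiniteField.card F p
  exact (Fact.out : p.Prime).dvd_of_dvd_pow (n := 2) (by rw [← hF, hc]; exact dvd_pow_self p n.pos.ne')

theorem exists_q_pow : ∃ a : ℕ, 0 < a ∧ q = p ^ a := by
  obtain ⟨n, hpp, hc⟩ := FiniteField.card F p
  obtain ⟨a, -, ha⟩ := (Nat.dvd_prime_pow hpp).1 (show q ∣ p ^ (n : ℕ) by
    rw [← hc, hF]; exact dvd_pow_self q two_ne_zero)
  refine ⟨a, Nat.pos_of_ne_zero fun h0 => ?_, ha⟩
  rw [h0, pow_zero] at ha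
  have := CfsgLib.Classical.two_le_q hF
  omega

end Char

end CfsgLib.U3MinIndex
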